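import Cfsg.Agent.Co2Mult.Checked
import Cfsg.Agent.Co2Out.Model
import Cfsg.Agent.Leech.ModTwo

/-!
The action on 47104 classes of short vectors, with a stabiliser isomorphic to the McLaughlin group.
-/

set_option autoImplicit false
set_option maxRecDepth 100000
set_option maxHeartbeats 0

namespace Cfsg.Agent.Co2Mult

open Cfsg Cfsg.Agent.Compute Cfsg.Agent.StemCert Cfsg.Agent.OutLin
open Cfsg.Agent.CosetCert (force_eq allFrom_iff)

/-- The two generators. -/
noncomputable def ab (x : ℕ) : ↥Spor.Co2 := evalW Co2Out.gen (abWords.getD x [])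

theorem ab_ok : allBelow 2 (fun x => lettB Co2Out.Data.k (abWords.getD x []) &&
    allBelow 24 fun i => forceN (Nat.shiftLeft 1 i) fun e =>
      Nat.beq (appL Co2Out.Data.codes (abWords.getD x []) e) (mapply (abCodes.getD x 0) e)) = true := by
  decide +kernel

theorem coded_ab : CodedL 2 Co2Out.ι ab abCodes := by
  intro s hs
  have h := allBelow_eq_true.mp ab_ok s hs
  simp only [Bool.and_eq_true] at h
  refine hasL_of_units Co2Out.linRep fun i hi => ?_
  rw [ab, valFn_word Co2Out.coded (lettB_spec h.1) (two_pow_lt hi)]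
  have h' := allBelow_eq_true.mp h.2 i hi
  rwa [forceN_eq, Nat.beq_eq, show Nat.shiftLeft 1 i = 2 ^ i from Nat.one_shiftLeft i] at h'

theorem back_ok : allBelow 2 (fun s => lettB 2 (backWords.getD s []) &&
    allBelow 24 fun i => forceN (Nat.shiftLeft 1 i) fun e =>
      Nat.beq (appL abCodes (backWords.getD s []) e) (mapply (Co2Out.Data.codes.getD s 0) e)) = true := by
  decide +kernel

theorem gen_eq (s : ℕ) (hs : s < 2) : Co2Out.gen s = evalW ab (backWords.getD s []) := by
  have h := allBelow_eq_true.mp back_ok s hs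
  simp only [Bool.and_eq_true] at h
  have hk : s < Co2Out.Data.k := hs.trans (by decide +kernel)
  refine eq_of_hasL Co2Out.linRep (Co2Out.coded s hk) (hasL_of_units Co2Out.linRep fun i hi => ?_)
  rw [valFn_word coded_ab (lettB_spec h.1) (two_pow_lt hi)]
  have h' := allBelow_eq_true.mp h.2 i hi
  rwa [forceN_eq, Nat.beq_eq, show Nat.shiftLeft 1 i = 2 ^ i from Nat.one_shiftLeft i] at h'

/-- They generate. -/
theorem generated : Subgroup.closure {e | ∃ x < 2, ab x = e} = ⊤ := by
  rw [eq_top_iff, ← Co2Out.generated, Subgroup.closure_le]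
  have hmem : ∀ s < 2, Co2Out.gen s ∈ Subgroup.closure {e | ∃ x < 2, ab x = e} := fun s hs => by
    have h := allBelow_eq_true.mp back_ok s hs
    simp only [Bool.and_eq_true] at h
    rw [gen_eq s hs]
    refine list_prod_mem fun e he => ?_
    obtain ⟨x, hx, rfl⟩ := List.mem_map.mp he
    exact Subgroup.subset_closure ⟨x, lettB_spec h.1 x hx, rfl⟩
  rintro e (rfl | rfl)
  exacts [hmem 0 (by norm_num), hmem 1 (by norm_num)]

theorem pt_lt (c : ℕ) : pt c < 2 ^ 24 :=
  Nat.lt_succ_iff.mpr (show pt c ≤ 16777215 from Nat.and_le_right)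

/-- A point as a binary vector. -/
noncomputable def P (c : Fin cert.n) : Fin (2 ^ 24) := ⟨pt c, pt_lt c⟩

theorem n_eq : cert.n = 47104 := by decide +kernel

theorem point_spec (c : ℕ) (hc : c < cert.n) : (∀ x < 2, cert.T c x < cert.n ∧ cert.back c x < cert.n ∧
    cert.back (cert.T c x) x = c ∧ mapply (abCodes.getD x 0) (pt c) = pt (cert.back c x)) ∧
    pointAt (place c) = c := by
  have h := point_ok c (n_eq ▸ hc)
  simp only [pointB, force_eq, Bool.and_eq_true, Nat.beq_eq] at h
  refine ⟨fun x hx => ?_, h.2⟩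
  have h' := (allFrom_iff _ 0 2).1 h.1 x (Nat.zero_le x) (by omega)
  simp only [force_eq, Bool.and_eq_true, Nat.beq_eq, Nat.blt_eq] at h'
  exact ⟨h'.1.1.1, h'.1.1.2, h'.1.2, h'.2⟩

theorem sorted_lt {i j : ℕ} (hij : i < j) (hj : j < 47104) : pt (pointAt i) < pt (pointAt j) := by
  induction j with
  | zero => omega
  | succ j ih =>
    have h := sort_ok j (by omega)
    simp only [sortB, Nat.blt_eq] at h
    rcases Nat.lt_succ_iff_lt_or_eq.mp hij with h1 | h1
    · exact (ih h1 (by omega)).trans h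
    · exact h1 ▸ h

theorem place_lt (c : ℕ) (hc : c < 47104) : place c < 47104 := by
  have h := (allFrom_iff (fun i => Nat.blt (place i) 47104) 0 47104).1 (by decide +kernel) c (Nat.zero_le c)
    (by omega)
  simpa [Nat.blt_eq] using h

theorem P_injective : Function.Injective P := by
  intro a b e
  have e' : pt a = pt b := congrArg Fin.val e
  have ha := (point_spec a a.2).2
  have hb := (point_spec b b.2).2
  have hla := place_lt a (lt_of_lt_of_eq a.2 n_eq)
  have hlb := place_lt b (lt_of_lt_of_eq b.2 n_eq)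
  rcases Nat.lt_trichotomy (place a) (place b) with h | h | h
  · have := sorted_lt h hlb; rw [ha, hb, e'] at this; exact absurd this (lt_irrefl _)
  · exact Fin.ext (by rw [← ha, ← hb, h])
  · have := sorted_lt h hla; rw [ha, hb, e'] at this; exact absurd this (lt_irrefl _)

theorem ab_apply (x : ℕ) (hx : x < 2) (c : Fin cert.n) :
    ∃ d : Fin cert.n, (d : ℕ) = cert.back c x ∧ Co2Out.ι (ab x) (P c) = P d := by
  obtain ⟨-, h2, -, h4⟩ := (point_spec c c.2).1 x hx
  exact ⟨⟨_, h2⟩, rfl, Fin.ext ((coded_ab x hx (P c)).trans h4)⟩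

theorem invariant (g : ↥Spor.Co2) (c : Fin cert.n) : ∃ d, Co2Out.ι g (P c) = P d := by
  have hg : g ∈ Subgroup.closure {e | ∃ x < 2, ab x = e} := generated ▸ Subgroup.mem_top g
  induction hg using Subgroup.closure_induction generalizing c with
  | mem e he =>
    obtain ⟨x, hx, rfl⟩ := he
    obtain ⟨d, -, hd⟩ := ab_apply x hx c
    exact ⟨d, hd⟩
  | one => exact ⟨c, by rw [map_one]; rfl⟩
  | mul a b _ _ iha ihb =>
    obtain ⟨d, hd⟩ := ihb c
    obtain ⟨e, he⟩ := iha d
    exact ⟨e, by rw [map_mul, Equiv.Perm.mul_apply, hd, he]⟩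
  | inv a _ ih =>
    choose f hf using ih
    have hinj : Function.Injective f := fun u v e =>
      P_injective ((Co2Out.ι a).injective ((hf u).trans ((congrArg P e).trans (hf v).symm)))
    obtain ⟨d, hd⟩ := Finite.injective_iff_surjective.mp hinj c
    exact ⟨d, by rw [map_inv, Equiv.Perm.inv_eq_iff_eq, hf, hd]⟩

/-- The image of a point. -/
noncomputable def move (g : ↥Spor.Co2) (c : Fin cert.n) : Fin cert.n := (invariant g c).choose

theorem move_spec (g : ↥Spor.Co2) (c : Fin cert.n) : Co2Out.ι g (P c) = P (move g c) :=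
  (invariant g c).choose_spec

theorem move_mul (g g' : ↥Spor.Co2) (c : Fin cert.n) : move (g * g') c = move g (move g' c) :=
  P_injective (by rw [← move_spec, map_mul, Equiv.Perm.mul_apply, move_spec, move_spec])

theorem move_one (c : Fin cert.n) : move 1 c = c :=
  P_injective (by rw [← move_spec, map_one]; rfl)

/-- The action on the points. -/
noncomputable def φ : ↥Spor.Co2 →* Equiv.Perm (Fin cert.n) where
  toFun g :=
    { toFun := move g
      invFun := move g⁻¹
      left_inv := fun c => by rw [← move_mul, inv_mul_cancel, move_one]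
      right_inv := fun c => by rw [← move_mul, mul_inv_cancel, move_one] }
  map_one' := Equiv.ext move_one
  map_mul' g g' := Equiv.ext (move_mul g g')

theorem φ_back (x : ℕ) (hx : x < 2) (c : Fin cert.n) : ((φ (ab x) c : Fin cert.n) : ℕ) = cert.back c x := by
  obtain ⟨d, hd, hd'⟩ := ab_apply x hx c
  rw [show φ (ab x) c = d from P_injective ((move_spec _ c).symm.trans hd'), hd]

theorem φ_tab (x : ℕ) (hx : x < 2) (c : Fin cert.n) :
    (((φ (ab x))⁻¹ c : Fin cert.n) : ℕ) = cert.T c x := by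
  obtain ⟨h1, -, h3, -⟩ := (point_spec c c.2).1 x hx
  have h : φ (ab x) ⟨_, h1⟩ = c := Fin.ext ((φ_back x hx _).trans h3)
  rw [(Equiv.Perm.inv_eq_iff_eq).mpr h.symm]

/-- The coefficients of the sum of the two vectors defining the group. -/
def baseCo : List ℤ := [0, 1, 0, 0, 0, 0, 0, 0, 0, 0, 0, 0, 0, 0, 0, 0, 0, 0, 0, 0, 0, 0, 0, -1]

theorem base_facts :
    (∀ p : GolayPt, Spor.vecU p + Spor.vecV p = Co2Out.Data.basis.comb baseCo p) ∧
    (∀ i : Fin 24, Nat.testBit (pt 0) i = !decide (baseCo.getD i 0 % 2 = 0)) ∧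
    sqNorm (fun p => Spor.vecU p + Spor.vecV p) = 32 ∧
    dotInt Spor.vecU (fun p => Spor.vecU p + Spor.vecV p) = 8 := by
  refine ⟨?_, ?_, ?_, ?_⟩ <;> decide +kernel

theorem enc_base : Co2Out.good.enc (pt 0) = Leech.cls (Spor.leechU + Spor.leechV) := by
  have e : Spor.leechU + Spor.leechV = ∑ i : Fin 24, baseCo.getD i 0 • Co2Out.good.vec i := by
    refine Subtype.ext (funext fun p => ?_)
    rw [AddSubgroup.val_finsetSum, Finset.sum_apply]
    exact base_facts.1 p
  rw [e, BasisCert.Good.enc, cls_sum, cls_sum]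
  refine Finset.sum_congr rfl fun i _ => ?_
  rw [cls_zsmul, base_facts.2.1 i]
  by_cases hb : baseCo.getD (i : ℕ) 0 % 2 = 0
  · simp only [hb, decide_true, Bool.not_true, Bool.false_eq_true, if_false, if_true]
    rfl
  · simp only [hb, decide_false, Bool.not_false, if_true, if_false]

/-- The point stabiliser. -/
noncomputable def S : Subgroup ↥Spor.Co2 := Spor.McL.subgroupOf Spor.Co2

theorem mcl_le : Spor.McL ≤ Spor.Co2 := fun g hg =>
  ⟨(Subgroup.mem_inf.mp (Subgroup.mem_inf.mp hg).1).1, (Subgroup.mem_inf.mp hg).2⟩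

/-- It is the group of the definitions. -/
noncomputable def stabEquiv : S ≃* ↥Spor.McL := Subgroup.subgroupOfEquivOfLe mcl_le

theorem mem_S (g : ↥Spor.Co2) : g ∈ S ↔ (g : Equiv.Perm leechLattice) Spor.leechV = Spor.leechV := by
  rw [S, Subgroup.mem_subgroupOf]
  exact ⟨fun h => (Subgroup.mem_inf.mp (Subgroup.mem_inf.mp h).1).2,
    fun h => Subgroup.mem_inf.mpr ⟨Subgroup.mem_inf.mpr ⟨(Subgroup.mem_inf.mp g.2).1, h⟩,
      (Subgroup.mem_inf.mp g.2).2⟩⟩

theorem φ_fix (g : ↥Spor.Co2) (h0 : 0 < cert.n) : φ g ⟨0, h0⟩ = ⟨0, h0⟩ ↔ g ∈ S := by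
  have hU : (g : Equiv.Perm leechLattice) Spor.leechU = Spor.leechU := (Subgroup.mem_inf.mp g.2).2
  have hadd : (g : Equiv.Perm leechLattice) (Spor.leechU + Spor.leechV) =
      Spor.leechU + (g : Equiv.Perm leechLattice) Spor.leechV := by
    rw [(Co2Out.le_co0 g.2).1, hU]
  have hcls : φ g ⟨0, h0⟩ = ⟨0, h0⟩ ↔ Leech.cls ((g : Equiv.Perm leechLattice) (Spor.leechU + Spor.leechV)) =
      Leech.cls (Spor.leechU + Spor.leechV) := by
    rw [← P_injective.eq_iff, show P (φ g ⟨0, h0⟩) = Co2Out.ι g (P ⟨0, h0⟩) from (move_spec _ _).symm]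
    have he : Co2Out.good.enc (P ⟨0, h0⟩ : ℕ) = Leech.cls (Spor.leechU + Spor.leechV) := enc_base
    rw [← (enc_injective Co2Out.good).eq_iff, Co2Out.ι]
    show Co2Out.good.enc _ = Co2Out.good.enc _ ↔ _
    rw [enc_binRep Co2Out.good Co2Out.le_co0, he, quotMap_cls]
  rw [hcls, mem_S]
  constructor
  · intro h
    obtain ⟨z, hz, hzeq⟩ := Leech.cls_eq.mp h.symm
    have hn : sqNorm ((Spor.leechU + Spor.leechV : leechLattice) : GolayPt → ℤ) = 32 := base_facts.2.2.1
    have hn' : sqNorm (((g : Equiv.Perm leechLattice) (Spor.leechU + Spor.leechV) : leechLattice) : GolayPt → ℤ) =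
        32 := ((Co2Out.le_co0 g.2).2 _).trans hn
    rcases Leech.congr_two (Subtype.prop _) (Subtype.prop _) (by omega) (by omega) hz hzeq with e | e | ⟨e, -, -⟩
    · rw [hadd] at e
      exact add_left_cancel (Subtype.ext e)
    · exfalso
      have hd : dotInt Spor.vecU ((Spor.leechU + Spor.leechV : leechLattice) : GolayPt → ℤ) = 8 :=
        base_facts.2.2.2
      have h1 := Leech.dotInt_smul (⟨g, Co2Out.le_co0 g.2⟩ : ↥Co0) Spor.leechU (Spor.leechU + Spor.leechV)
      change dotInt (((g : Equiv.Perm leechLattice) Spor.leechU : leechLattice) : GolayPt → ℤ)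
        (((g : Equiv.Perm leechLattice) (Spor.leechU + Spor.leechV) : leechLattice) : GolayPt → ℤ) = _ at h1
      rw [hU, e] at h1
      simp only [dotInt, Pi.neg_apply, mul_neg, Finset.sum_neg_distrib] at h1
      change -dotInt Spor.vecU _ = dotInt Spor.vecU _ at h1
      omega
    · omega
  · intro h
    rw [hadd, h]

end Cfsg.Agent.Co2Mult
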