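import Cfsg.Agent.Co2Mult.Tools

/-! Generated: checks of the tables. -/

set_option autoImplicit false
set_option Elab.async false
set_option maxRecDepth 100000

namespace Cfsg.Agent.Co2Mult

open Cfsg.Agent.CosetCert

theorem point_at0 : allFrom pointB 0 4096 = true := by decide +kernel

theorem point_at4096 : allFrom pointB 4096 4096 = true := by decide +kernel

theorem point_at8192 : allFrom pointB 8192 4096 = true := by decide +kernel

theorem point_at12288 : allFrom pointB 12288 4096 = true := by decide +kernel

theorem point_at16384 : allFrom pointB 16384 4096 = true := by decide +kernel

theorem point_at20480 : allFrom pointB 20480 4096 = true := by decide +kernel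

theorem point_at24576 : allFrom pointB 24576 4096 = true := by decide +kernel

theorem point_at28672 : allFrom pointB 28672 4096 = true := by decide +kernel

theorem point_at32768 : allFrom pointB 32768 4096 = true := by decide +kernel

theorem point_at36864 : allFrom pointB 36864 4096 = true := by decide +kernel

theorem point_at40960 : allFrom pointB 40960 4096 = true := by decide +kernel

theorem point_at45056 : allFrom pointB 45056 2048 = true := by decide +kernel


end Cfsg.Agent.Co2Mult
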