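import Cfsg.Agent.Co2Mult.Tools

/-! Generated: checks of the edges. -/

set_option autoImplicit false
set_option Elab.async false
set_option maxRecDepth 100000

namespace Cfsg.Agent.Co2Mult

open Cfsg.Agent.CosetCert

theorem var_at0 : allFrom cert.varB 0 2048 = true := by decide +kernel

theorem var_at2048 : allFrom cert.varB 2048 2048 = true := by decide +kernel

theorem var_at4096 : allFrom cert.varB 4096 2048 = true := by decide +kernel

theorem var_at6144 : allFrom cert.varB 6144 2048 = true := by decide +kernel

theorem var_at8192 : allFrom cert.varB 8192 2048 = true := by decide +kernel

theorem var_at10240 : allFrom cert.varB 10240 2048 = true := by decide +kernel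

theorem var_at12288 : allFrom cert.varB 12288 2048 = true := by decide +kernel

theorem var_at14336 : allFrom cert.varB 14336 2048 = true := by decide +kernel


end Cfsg.Agent.Co2Mult
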