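import Cfsg.Agent.Co2Mult.Tools

/-! Generated: checks of the edges. -/

set_option autoImplicit false
set_option Elab.async false
set_option maxRecDepth 100000

namespace Cfsg.Agent.Co2Mult

open Cfsg.Agent.CosetCert

theorem var_at16384 : allFrom cert.varB 16384 2048 = true := by decide +kernel

theorem var_at18432 : allFrom cert.varB 18432 2048 = true := by decide +kernel

theorem var_at20480 : allFrom cert.varB 20480 2048 = true := by decide +kernel

theorem var_at22528 : allFrom cert.varB 22528 2048 = true := by decide +kernel

theorem var_at24576 : allFrom cert.varB 24576 2048 = true := by decide +kernel

theorem var_at26624 : allFrom cert.varB 26624 2048 = true := by decide +kernel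

theorem var_at28672 : allFrom cert.varB 28672 2048 = true := by decide +kernel

theorem var_at30720 : allFrom cert.varB 30720 2048 = true := by decide +kernel


end Cfsg.Agent.Co2Mult
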