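import Cfsg.Agent.Co2Mult.Tools

/-! Generated: checks of the edges. -/

set_option autoImplicit false
set_option Elab.async false
set_option maxRecDepth 100000

namespace Cfsg.Agent.Co2Mult

open Cfsg.Agent.CosetCert

theorem var_at32768 : allFrom cert.varB 32768 2048 = true := by decide +kernel

theorem var_at34816 : allFrom cert.varB 34816 2048 = true := by decide +kernel

theorem var_at36864 : allFrom cert.varB 36864 2048 = true := by decide +kernel

theorem var_at38912 : allFrom cert.varB 38912 2048 = true := by decide +kernel

theorem var_at40960 : allFrom cert.varB 40960 2048 = true := by decide +kernel

theorem var_at43008 : allFrom cert.varB 43008 2048 = true := by decide +kernel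

theorem var_at45056 : allFrom cert.varB 45056 2048 = true := by decide +kernel

theorem var_at47104 : allFrom cert.varB 47104 2048 = true := by decide +kernel


end Cfsg.Agent.Co2Mult
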