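import Cfsg.Agent.Co2Mult.Tools

/-! Generated: checks of the edges. -/

set_option autoImplicit false
set_option Elab.async false
set_option maxRecDepth 100000

namespace Cfsg.Agent.Co2Mult

open Cfsg.Agent.CosetCert

theorem var_at49152 : allFrom cert.varB 49152 2048 = true := by decide +kernel

theorem var_at51200 : allFrom cert.varB 51200 2048 = true := by decide +kernel

theorem var_at53248 : allFrom cert.varB 53248 2048 = true := by decide +kernel

theorem var_at55296 : allFrom cert.varB 55296 2048 = true := by decide +kernel

theorem var_at57344 : allFrom cert.varB 57344 2048 = true := by decide +kernel

theorem var_at59392 : allFrom cert.varB 59392 2048 = true := by decide +kernel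

theorem var_at61440 : allFrom cert.varB 61440 2048 = true := by decide +kernel

theorem var_at63488 : allFrom cert.varB 63488 2048 = true := by decide +kernel


end Cfsg.Agent.Co2Mult
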