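import Cfsg.Agent.Co2Mult.Tools

/-! Generated: checks of the edges. -/

set_option autoImplicit false
set_option Elab.async false
set_option maxRecDepth 100000

namespace Cfsg.Agent.Co2Mult

open Cfsg.Agent.CosetCert

theorem var_at65536 : allFrom cert.varB 65536 2048 = true := by decide +kernel

theorem var_at67584 : allFrom cert.varB 67584 2048 = true := by decide +kernel

theorem var_at69632 : allFrom cert.varB 69632 2048 = true := by decide +kernel

theorem var_at71680 : allFrom cert.varB 71680 2048 = true := by decide +kernel

theorem var_at73728 : allFrom cert.varB 73728 2048 = true := by decide +kernel

theorem var_at75776 : allFrom cert.varB 75776 2048 = true := by decide +kernel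

theorem var_at77824 : allFrom cert.varB 77824 2048 = true := by decide +kernel

theorem var_at79872 : allFrom cert.varB 79872 2048 = true := by decide +kernel


end Cfsg.Agent.Co2Mult
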