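import Cfsg.Agent.Co2Mult.Tools

/-! Generated: checks of the edges. -/

set_option autoImplicit false
set_option Elab.async false
set_option maxRecDepth 100000

namespace Cfsg.Agent.Co2Mult

open Cfsg.Agent.CosetCert

theorem var_at81920 : allFrom cert.varB 81920 2048 = true := by decide +kernel

theorem var_at83968 : allFrom cert.varB 83968 2048 = true := by decide +kernel

theorem var_at86016 : allFrom cert.varB 86016 2048 = true := by decide +kernel

theorem var_at88064 : allFrom cert.varB 88064 2048 = true := by decide +kernel

theorem var_at90112 : allFrom cert.varB 90112 2048 = true := by decide +kernel

theorem var_at92160 : allFrom cert.varB 92160 2048 = true := by decide +kernel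


end Cfsg.Agent.Co2Mult
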