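import Cfsg.Agent.Co2Mult.CheckVar0
import Cfsg.Agent.Co2Mult.CheckVar1
import Cfsg.Agent.Co2Mult.CheckVar2
import Cfsg.Agent.Co2Mult.CheckVar3
import Cfsg.Agent.Co2Mult.CheckVar4
import Cfsg.Agent.Co2Mult.CheckVar5
import Cfsg.Agent.Co2Mult.CheckPoint0
import Cfsg.Agent.Co2Mult.CheckTree0
import Cfsg.Agent.Co2Mult.CheckSort0

/-! Generated: checks of everything combined. -/

set_option autoImplicit false
set_option Elab.async false
set_option maxRecDepth 100000

namespace Cfsg.Agent.Co2Mult

open Cfsg.Agent.CosetCert

theorem var_ok : ∀ i, i < 94208 → cert.varB i = true := by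
  have h0 : ∀ i, i < 0 → cert.varB i = true := forall_lt_zero
  have h1 := forall_lt_step (b := 2048) h0 var_at0 rfl
  have h2 := forall_lt_step (b := 4096) h1 var_at2048 rfl
  have h3 := forall_lt_step (b := 6144) h2 var_at4096 rfl
  have h4 := forall_lt_step (b := 8192) h3 var_at6144 rfl
  have h5 := forall_lt_step (b := 10240) h4 var_at8192 rfl
  have h6 := forall_lt_step (b := 12288) h5 var_at10240 rfl
  have h7 := forall_lt_step (b := 14336) h6 var_at12288 rfl
  have h8 := forall_lt_step (b := 16384) h7 var_at14336 rfl
  have h9 := forall_lt_step (b := 18432) h8 var_at16384 rfl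
  have h10 := forall_lt_step (b := 20480) h9 var_at18432 rfl
  have h11 := forall_lt_step (b := 22528) h10 var_at20480 rfl
  have h12 := forall_lt_step (b := 24576) h11 var_at22528 rfl
  have h13 := forall_lt_step (b := 26624) h12 var_at24576 rfl
  have h14 := forall_lt_step (b := 28672) h13 var_at26624 rfl
  have h15 := forall_lt_step (b := 30720) h14 var_at28672 rfl
  have h16 := forall_lt_step (b := 32768) h15 var_at30720 rfl
  have h17 := forall_lt_step (b := 34816) h16 var_at32768 rfl
  have h18 := forall_lt_step (b := 36864) h17 var_at34816 rfl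
  have h19 := forall_lt_step (b := 38912) h18 var_at36864 rfl
  have h20 := forall_lt_step (b := 40960) h19 var_at38912 rfl
  have h21 := forall_lt_step (b := 43008) h20 var_at40960 rfl
  have h22 := forall_lt_step (b := 45056) h21 var_at43008 rfl
  have h23 := forall_lt_step (b := 47104) h22 var_at45056 rfl
  have h24 := forall_lt_step (b := 49152) h23 var_at47104 rfl
  have h25 := forall_lt_step (b := 51200) h24 var_at49152 rfl
  have h26 := forall_lt_step (b := 53248) h25 var_at51200 rfl
  have h27 := forall_lt_step (b := 55296) h26 var_at53248 rfl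
  have h28 := forall_lt_step (b := 57344) h27 var_at55296 rfl
  have h29 := forall_lt_step (b := 59392) h28 var_at57344 rfl
  have h30 := forall_lt_step (b := 61440) h29 var_at59392 rfl
  have h31 := forall_lt_step (b := 63488) h30 var_at61440 rfl
  have h32 := forall_lt_step (b := 65536) h31 var_at63488 rfl
  have h33 := forall_lt_step (b := 67584) h32 var_at65536 rfl
  have h34 := forall_lt_step (b := 69632) h33 var_at67584 rfl
  have h35 := forall_lt_step (b := 71680) h34 var_at69632 rfl
  have h36 := forall_lt_step (b := 73728) h35 var_at71680 rfl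
  have h37 := forall_lt_step (b := 75776) h36 var_at73728 rfl
  have h38 := forall_lt_step (b := 77824) h37 var_at75776 rfl
  have h39 := forall_lt_step (b := 79872) h38 var_at77824 rfl
  have h40 := forall_lt_step (b := 81920) h39 var_at79872 rfl
  have h41 := forall_lt_step (b := 83968) h40 var_at81920 rfl
  have h42 := forall_lt_step (b := 86016) h41 var_at83968 rfl
  have h43 := forall_lt_step (b := 88064) h42 var_at86016 rfl
  have h44 := forall_lt_step (b := 90112) h43 var_at88064 rfl
  have h45 := forall_lt_step (b := 92160) h44 var_at90112 rfl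
  have h46 := forall_lt_step (b := 94208) h45 var_at92160 rfl
  exact h46

theorem point_ok : ∀ i, i < 47104 → pointB i = true := by
  have h0 : ∀ i, i < 0 → pointB i = true := forall_lt_zero
  have h1 := forall_lt_step (b := 4096) h0 point_at0 rfl
  have h2 := forall_lt_step (b := 8192) h1 point_at4096 rfl
  have h3 := forall_lt_step (b := 12288) h2 point_at8192 rfl
  have h4 := forall_lt_step (b := 16384) h3 point_at12288 rfl
  have h5 := forall_lt_step (b := 20480) h4 point_at16384 rfl
  have h6 := forall_lt_step (b := 24576) h5 point_at20480 rfl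
  have h7 := forall_lt_step (b := 28672) h6 point_at24576 rfl
  have h8 := forall_lt_step (b := 32768) h7 point_at28672 rfl
  have h9 := forall_lt_step (b := 36864) h8 point_at32768 rfl
  have h10 := forall_lt_step (b := 40960) h9 point_at36864 rfl
  have h11 := forall_lt_step (b := 45056) h10 point_at40960 rfl
  have h12 := forall_lt_step (b := 47104) h11 point_at45056 rfl
  exact h12

theorem tree_ok : ∀ i, i < 47104 → cert.treeB i = true := by
  have h0 : ∀ i, i < 0 → cert.treeB i = true := forall_lt_zero
  have h1 := forall_lt_step (b := 4096) h0 tree_at0 rfl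
  have h2 := forall_lt_step (b := 8192) h1 tree_at4096 rfl
  have h3 := forall_lt_step (b := 12288) h2 tree_at8192 rfl
  have h4 := forall_lt_step (b := 16384) h3 tree_at12288 rfl
  have h5 := forall_lt_step (b := 20480) h4 tree_at16384 rfl
  have h6 := forall_lt_step (b := 24576) h5 tree_at20480 rfl
  have h7 := forall_lt_step (b := 28672) h6 tree_at24576 rfl
  have h8 := forall_lt_step (b := 32768) h7 tree_at28672 rfl
  have h9 := forall_lt_step (b := 36864) h8 tree_at32768 rfl
  have h10 := forall_lt_step (b := 40960) h9 tree_at36864 rfl
  have h11 := forall_lt_step (b := 45056) h10 tree_at40960 rfl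
  have h12 := forall_lt_step (b := 47104) h11 tree_at45056 rfl
  exact h12

theorem sort_ok : ∀ i, i < 47103 → sortB i = true := by
  have h0 : ∀ i, i < 0 → sortB i = true := forall_lt_zero
  have h1 := forall_lt_step (b := 4096) h0 sort_at0 rfl
  have h2 := forall_lt_step (b := 8192) h1 sort_at4096 rfl
  have h3 := forall_lt_step (b := 12288) h2 sort_at8192 rfl
  have h4 := forall_lt_step (b := 16384) h3 sort_at12288 rfl
  have h5 := forall_lt_step (b := 20480) h4 sort_at16384 rfl
  have h6 := forall_lt_step (b := 24576) h5 sort_at20480 rfl
  have h7 := forall_lt_step (b := 28672) h6 sort_at24576 rfl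
  have h8 := forall_lt_step (b := 32768) h7 sort_at28672 rfl
  have h9 := forall_lt_step (b := 36864) h8 sort_at32768 rfl
  have h10 := forall_lt_step (b := 40960) h9 sort_at36864 rfl
  have h11 := forall_lt_step (b := 45056) h10 sort_at40960 rfl
  have h12 := forall_lt_step (b := 47103) h11 sort_at45056 rfl
  exact h12

theorem checked : cert.Checked where
  d_eq := by decide +kernel
  n_pos := by decide +kernel
  K_pos := by decide +kernel
  relsLt := by decide +kernel
  rows_lt := by decide +kernel
  zero_lt := by decide +kernel
  tree := tree_ok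
  var := var_ok
  combo := fun c hc => (allFrom_iff cert.comboB 0 48).1 (by decide +kernel) c (Nat.zero_le c) (by rw [Nat.zero_add]; exact hc)

end Cfsg.Agent.Co2Mult
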