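import Cfsg.Agent.CocycleCert.Two
import Cfsg.Agent.Co2Mult.PointData
import Cfsg.Agent.Co2Mult.VecData
import Cfsg.Agent.Co2Mult.JustData

/-! Generated: two generators of orders two and five, and the certificate on 47104 points. -/

set_option autoImplicit false
set_option Elab.async false

namespace Cfsg.Agent.Co2Mult

open Cfsg.Agent.CosetCert

/-- The generators as words in the generators of the model. -/
def abWords : List (List ℕ) := [[0, 0, 0, 0, 1, 1, 0, 0, 1, 0, 0, 0, 0, 0, 0, 0, 0, 0, 0, 0, 0, 0, 0, 0, 0, 0],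
  [0, 0, 1, 0, 1, 1, 1, 0, 0, 1, 0, 1, 1, 1]]

/-- Their matrices. -/
def abCodes : List ℕ := [0x125493304294504294a8ec6b0e4e9d9f26f5044e9dc9aeffb611e3d6d1e3106294015173b8e46b9d6c6a000202c09ce8b19e8daee022a79224dfe39508331d000006000002083316,
  0x3969039a063d4c990498537f5a88fd084718ad2700b5ed05eb6004805a7b63d97f7299600e39907bbd94b47d4239cf0a0011142ebf01521d010025e94dfed3b812000002963e75]

/-- The generators of the model as words in them. -/
def backWords : List (List ℕ) := [[0, 1, 1, 0, 1, 0, 1, 0, 1, 1, 1, 0, 1, 1, 0, 1, 1, 1, 1, 0, 1, 1, 0, 1, 1, 0, 1, 1, 1, 0, 1, 1, 1, 1, 0, 1, 0, 1, 0, 1, 1, 1, 1, 0, 1, 1, 1, 0, 1, 0, 1, 1, 1, 1, 1, 1, 1, 1, 1, 1, 1, 1, 1, 1, 0, 1, 1, 1, 1, 0, 1, 1, 1, 1, 0, 1, 1, 1, 1, 1, 1, 1, 1, 0, 1, 1, 1, 1, 1, 1, 1, 1, 1, 1, 1, 1, 1, 1, 1, 1, 0, 1, 1, 1, 1, 1, 1, 1, 1, 1, 1, 1, 1, 0, 1, 1, 1, 1, 1, 1, 1, 1, 1, 1, 1, 1, 1, 1, 1, 1, 0, 1, 1, 1, 1, 1, 1, 0, 1, 0, 1, 1, 1, 0, 1, 0, 1, 0, 1, 1, 1, 1, 0, 1, 1,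 1, 0, 1, 0, 1, 1, 1, 0, 1, 1, 1, 1, 0, 1, 1, 1, 0, 1, 1, 1, 1, 1, 1, 1, 1, 1, 1, 1, 1, 0, 1, 1, 1, 1, 0, 1, 1, 1, 1, 0, 1, 1, 1, 1, 0, 1, 1, 1, 1, 1, 1, 1, 1, 0, 1, 1, 1, 1, 1, 1, 1, 1, 1, 1, 1, 1, 0, 1, 1, 1, 1, 0, 1, 1, 1, 1, 1, 1, 1, 1, 1, 1, 1, 1, 0, 1, 1, 1, 1, 1, 1, 1, 1, 0, 1, 0, 1, 1, 0, 1, 0, 1, 0, 1, 1, 0, 1, 1, 1, 0, 1, 1, 0],
  [0, 1, 1, 0, 1, 1, 1, 0, 1, 1, 0, 1, 1, 1, 0, 1, 1, 1, 0, 1, 1, 0, 1, 1, 1, 0, 1, 1, 1, 0, 1, 0, 1, 0, 1, 0, 1, 1, 1, 1, 0, 1, 1, 1, 1, 0, 1, 0, 1, 1, 1, 1, 0, 1, 1, 1, 1, 1, 1, 1, 1, 1, 1, 1, 1, 1, 0, 1, 1, 1, 1, 1, 1, 1, 1, 0, 1, 1, 1, 1, 0, 1, 1, 1, 1, 0, 1, 1, 1, 1, 1, 1, 1, 1, 1, 1, 1, 1, 0, 1, 0, 1, 1, 0, 1, 1, 1, 1, 0, 1, 1, 1, 1, 0, 1, 1, 0, 1, 1, 1, 0, 1, 1, 1, 1, 0, 1, 1, 0, 1, 1, 0, 1, 1, 0, 1, 1, 0, 1, 1, 1, 1, 1, 1, 1, 1, 1, 1, 1, 1, 1, 1, 0, 1, 1, 1, 1, 0, 1, 1, 1, 1, 1, 1, 1, 1, 1, 1, 1, 1, 0, 1, 1, 1, 1, 0, 1, 1, 1, 1, 1, 1, 1, 1, 1, 1, 1, 1, 0, 1, 1, 1, 1, 0, 1, 1, 1, 1, 0, 1, 1,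 1, 1, 0, 1, 1, 1, 1, 0, 0, 1, 0, 1, 1, 0, 1, 0, 1, 0, 1, 0, 1, 1, 0, 1]]

/-- The images of the points. -/
noncomputable def tab (c x : ℕ) : ℕ :=
  force (get48 tabStore c) fun v => Nat.land (Nat.shiftRight v (Nat.mul 24 x)) 16777215

/-- The preimages of the points. -/
noncomputable def back (c x : ℕ) : ℕ :=
  force (get48 backStore c) fun v => Nat.land (Nat.shiftRight v (Nat.mul 24 x)) 16777215

/-- The classes at the points. -/
noncomputable def pt (c : ℕ) : ℕ := Nat.land (get48 ptsStore c) 16777215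

/-- The places of the points. -/
noncomputable def place (c : ℕ) : ℕ := Nat.shiftRight (get48 ptsStore c) 24

/-- The point at a place. -/
noncomputable def pointAt (i : ℕ) : ℕ := Nat.land (get48 atStore i) 16777215

/-- The certificate. -/
noncomputable def cert : CocycleCert.Cert2 where
  n := 47104
  K := 2
  d := 48
  T := tab
  back := back
  par := fun c => Nat.shiftRight (get48 atStore c) 24
  V := get48 vecStore
  J := get48 justStore
  rels := [[(0, true), (0, true)],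
    [(1, true), (1, true), (1, true), (1, true), (1, true)],
    [(0, true), (1, true), (0, true), (1, false), (0, true), (1, true), (0, true), (1, false), (0, true), (1, true), (0, true), (1, false), (0, true), (1, true), (0, true), (1, false)],
    [(0, true), (1, true), (0, true), (1, true), (0, true), (1, true), (0, true), (1, true), (0, true), (1, true), (0, true), (1, true), (0, true), (1, true), (0, true), (1, true), (0, true), (1, true)],
    [(0, true), (1, true), (1, true), (0, true), (1, false), (1, false), (0, true), (1, true), (1, true), (0, true), (1, false), (1, false), (0, true), (1, true), (1, true), (0, true), (1, false), (1, false), (0, true), (1, true), (1, true), (0, true), (1, false), (1, false)],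
    [(0, true), (1, true), (0, true), (1, true), (0, true), (1, false), (0, true), (1, false), (0, true), (1, true), (0, true), (1, true), (0, true), (1, false), (0, true), (1, false), (0, true), (1, true), (0, true), (1, true), (0, true), (1, false), (0, true), (1, false)],
    [(0, true), (1, true), (0, true), (1, true), (1, true), (0, true), (1, true), (0, true), (1, false), (0, true), (1, false), (1, false), (0, true), (1, false), (0, true), (1, true), (0, true), (1, true), (1, true), (0, true), (1, true), (0, true), (1, false), (0, true), (1, false), (1, false), (0, true), (1, false)],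
    [(0, true), (1, true), (0, true), (1, true), (0, true), (1, true), (0, true), (1, true), (0, true), (1, true), (0, true), (1, true), (0, true), (1, true), (1, true), (0, true), (1, false), (0, true), (1, true), (0, true), (1, false), (0, true), (1, true), (0, true), (1, false), (0, true), (1, true), (1, true)],
    [(0, true), (1, true), (0, true), (1, false), (0, true), (1, false), (1, false), (0, true), (1, true), (1, true), (0, true), (1, true), (0, true), (1, false), (0, true), (1, false), (1, false), (0, true), (1, true), (1, true), (0, true), (1, true), (0, true), (1, false), (0, true), (1, false), (1, false), (0, true), (1, true), (1, true)],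
    [(0, true), (1, true), (0, true), (1, true), (1, true), (0, true), (1, false), (1, false), (0, true), (1, false), (0, true), (1, true), (0, true), (1, true), (1, true), (0, true), (1, false), (1, false), (0, true), (1, false), (0, true), (1, true), (0, true), (1, true), (1, true), (0, true), (1, false), (1, false), (0, true), (1, false)],
    [(0, true), (1, true), (0, true), (1, true), (0, true), (1, false), (1, false), (0, true), (1, true), (0, true), (1, false), (0, true), (1, true), (0, true), (1, false), (0, true), (1, true), (1, true), (0, true), (1, false), (0, true), (1, false), (0, true), (1, true), (0, true), (1, true), (0, true), (1, false), (0, true), (1, false)],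
    [(0, true), (1, true), (0, true), (1, false), (1, false), (0, true), (1, true), (0, true), (1, false), (0, true), (1, true), (0, true), (1, false), (0, true), (1, true), (0, true), (1, false), (0, true), (1, true), (1, true), (0, true), (1, false), (0, true), (1, true), (0, true), (1, false), (0, true), (1, true), (0, true), (1, false)],
    [(0, true), (1, true), (0, true), (1, true), (0, true), (1, false), (0, true), (1, false), (0, true), (1, true), (0, true), (1, true), (0, true), (1, false), (0, true), (1, false), (0, true), (1, true), (1, true), (0, true), (1, false), (0, true), (1, true), (0, true), (1, false), (0, true), (1, true), (0, true), (1, false), (1, false)],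
    [(0, true), (1, true), (0, true), (1, false), (1, false), (0, true), (1, true), (1, true), (0, true), (1, false), (0, true), (1, true), (1, true), (0, true), (1, false), (1, false), (0, true), (1, true), (0, true), (1, false), (1, false), (0, true), (1, true), (1, true), (0, true), (1, false), (0, true), (1, true), (1, true), (0, true), (1, false), (1, false)],
    [(0, true), (1, true), (0, true), (1, false), (1, false), (0, true), (1, true), (1, true), (0, true), (1, true), (0, true), (1, false), (1, false), (0, true), (1, true), (1, true), (0, true), (1, true), (0, true), (1, false), (1, false), (0, true), (1, true), (1, true), (0, true), (1, true), (0, true), (1, false), (1, false), (0, true), (1, true), (1, true), (0, true), (1, true), (0, true), (1, false), (1, false), (0, true), (1, true), (1, true), (0, true), (1, true), (0, true), (1, false), (1, false), (0, true), (1, true), (1, true), (0, true), (1, true), (0, true),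 (1, false), (1, false), (0, true), (1, true), (1, true), (0, true), (1, true), (0, true), (1, false), (1, false), (0, true), (1, true), (1, true), (0, true), (1, true), (0, true), (1, false), (1, false), (0, true), (1, true), (1, true), (0, true), (1, true), (0, true), (1, false), (1, false), (0, true), (1, true), (1, true), (0, true), (1, true), (0, true), (1, false), (1, false), (0, true), (1, true), (1, true)]]
  free := [93, 675, 340, 2655, 10625, 2719, 8231, 2919, 1777, 2248, 25085, 35577, 6305, 11103, 7975, 2653, 9309, 7945, 64219, 24905, 4763, 6324, 7891, 32015, 48500, 6671, 12481, 7157, 32043, 34193, 15281, 1675, 37317]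
  zero := [1, 3]
  rows := [(0, 19251), (0, 40984), (0, 33406), (0, 41763), (0, 19178), (0, 36144), (0, 46886), (0, 46183), (0, 20504), (0, 7845), (0, 26304), (0, 21068), (0, 23169), (0, 26768), (0, 19977), (0, 35601), (0, 39962), (0, 42314), (0, 35486), (0, 20902), (0, 37089), (0, 41031), (0, 36254), (0, 31595), (0, 40647), (0, 39627), (0, 41901), (0, 34839), (0, 44836), (0, 46348), (0, 14407), (0, 46510), (0, 31612), (0, 46858), (0, 23338), (0, 15493), (0, 39493), (0, 20366), (0, 45043), (0, 42555), (0, 45752), (0, 43938), (0, 45663), (0, 46979), (0, 27153), (0, 35175)]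
  combos := [[4, 5, 6, 8, 10, 11, 12, 13, 14, 16, 19, 24, 26, 29, 30, 31, 33, 34, 37, 39, 40, 42, 43, 45], [46], [1, 13, 25], [47], [1, 4, 5, 6, 8, 10, 11, 12, 13, 16, 19, 24, 26, 29, 30, 31, 33, 34, 37, 39, 40, 42, 43, 45], [1, 4, 5, 6, 7, 11, 12, 16, 18, 20, 24, 25, 27, 29, 31, 32, 33, 34, 38, 39, 40, 41, 43, 44, 45], [1, 2, 5, 7, 13, 14, 16, 18, 21, 24, 27, 28, 31, 32, 34, 35, 36, 37, 38, 39, 41, 43, 45], [47, 13, 25], [0, 3, 4, 5, 6, 7, 8, 9, 10, 11, 15, 16, 17, 18, 19, 22, 24, 28, 30, 31, 32, 36, 37, 39, 43, 44, 45], [0, 3, 8, 9, 10, 12, 15, 17, 19, 20, 22, 25, 27, 28, 29, 30, 34, 36, 37, 38, 40, 41], [1, 7, 8, 10, 13, 14, 18, 19, 20, 21, 26, 27, 30, 32, 37, 38, 41, 42, 44], [0, 3, 4, 5, 6, 8, 10, 12, 13, 14, 15, 16, 19, 22, 23, 25, 28, 30, 31, 33, 34, 35, 38, 40, 41, 42, 44, 45], [1, 7, 8, 10, 13, 14, 18, 19, 20, 26, 27, 30, 32, 37, 38, 41, 42, 44], [2, 7, 8, 9, 11, 12, 13, 14, 18, 21, 26, 28, 29, 31, 33, 34, 36, 37, 38, 40,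 42, 43, 44], [47, 2, 6, 8, 10, 11, 12, 13, 14, 19, 21, 23, 24, 25, 28, 31, 32, 33, 36, 38, 39, 41], [46, 47, 1, 4, 6, 9, 11, 12, 13, 17, 18, 23, 24, 25, 26, 27, 28, 29, 30, 37, 38, 39, 41], [46, 1, 2, 4, 5, 6, 7, 10, 11, 16, 17, 18, 19, 20, 21, 23, 24, 25, 26, 27, 31, 38, 43, 44, 45], [0, 1, 7, 9, 10, 13, 15, 17, 18, 20, 22, 23, 24, 26, 29, 31, 32, 35, 37, 39, 40, 44, 45], [0, 2, 9, 14, 16, 19, 20, 21, 22, 26, 27, 28, 29, 34, 35, 36, 38, 39, 40, 42, 45], [47, 3, 4, 9, 10, 11, 13, 17, 18, 19, 24, 26, 29, 30, 31, 33, 34, 36, 40, 41, 42], [46, 0, 1, 2, 4, 6, 8, 10, 13, 16, 21, 22, 23, 24, 25, 28, 30, 32, 35, 36, 37, 38, 42, 44], [47, 0, 1, 2, 3, 4, 5, 6, 7, 8, 9, 10, 11, 13, 17, 18, 19, 20, 21, 22, 24, 31, 35, 36, 37, 38, 40, 41, 44, 45], [46, 1, 3, 5, 6, 7, 9, 11, 12, 13, 19, 21, 24, 26, 31, 32, 34, 37, 38, 41, 42, 44], [46, 47, 0, 1, 3, 6, 7, 9, 11, 14, 17, 18, 19, 20, 21, 22, 23, 24, 25, 27, 29, 32, 37, 38, 39, 40, 41, 42, 43], [1,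 3, 8, 11, 13, 14, 16, 20, 21, 24, 25, 26, 27, 29, 34, 35, 39, 42], [46, 4, 8, 9, 11, 15, 18, 20, 23, 24, 27, 28, 30, 32, 34, 36, 37, 39, 42], [47, 1, 3, 4, 6, 8, 9, 11, 13, 16, 18, 19, 21, 23, 24, 26, 27, 28, 29, 31, 35, 36, 37, 40, 41, 44], [47, 0, 2, 4, 5, 6, 7, 8, 9, 14, 15, 18, 19, 22, 24, 25, 26, 27, 30, 33, 35, 42], [46, 47, 1, 3, 5, 6, 8, 9, 10, 12, 13, 14, 15, 16, 19, 20, 24, 26, 30, 31, 35, 37, 39, 41, 42, 43, 45], [47, 2, 4, 5, 6, 9, 10, 11, 12, 15, 17, 19, 21, 26, 27, 28, 31, 33, 34, 36, 37, 38, 41, 42, 43, 44], [47, 0, 5, 6, 7, 8, 9, 10, 11, 13, 15, 16, 18, 20, 22, 23, 24, 27, 29, 32, 34, 36, 38, 40, 42, 44, 45], [0, 2, 3, 6, 17, 18, 19, 21, 22, 23, 25, 26, 30, 33, 36, 38, 39, 40, 41], [47, 1, 4, 6, 10, 11, 15, 17, 18, 19, 24, 26, 29, 30, 31, 34, 40, 42, 44], [0, 2, 3, 4, 5, 6, 8, 12, 15, 16, 18, 20, 21, 24, 25, 26, 27, 29, 31, 33, 35, 36, 38, 39, 41, 42, 44, 45], [47, 1, 2, 4, 6, 7, 9, 11, 13, 14, 15, 17, 18, 19, 20,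 21, 23, 24, 27, 28, 33, 37, 38, 39, 42, 43, 44, 45], [0, 1, 2, 3, 5, 7, 9, 10, 14, 16, 17, 18, 20, 22, 23, 26, 30, 32, 36, 37, 40, 41, 44], [47, 1, 2, 6, 8, 9, 10, 12, 16, 18, 19, 20, 26, 29, 31, 33, 36, 39, 42, 43, 44], [46, 6, 8, 9, 10, 11, 14, 15, 16, 17, 19, 26, 27, 31, 32, 33, 39, 42, 43, 45], [46, 47, 0, 1, 3, 6, 7, 8, 10, 13, 14, 15, 16, 17, 18, 19, 22, 23, 24, 31, 32, 36, 38, 40, 41, 42, 44, 45], [2, 6, 7, 9, 10, 12, 14, 15, 17, 18, 19, 23, 24, 25, 31, 32, 33, 34, 36, 38, 39, 40, 42, 45], [47, 1, 2, 3, 4, 6, 7, 8, 13, 14, 17, 18, 19, 20, 21, 23, 25, 26, 27, 28, 29, 30, 31, 38, 39, 40, 43], [46, 47, 0, 3, 6, 8, 10, 11, 12, 14, 17, 18, 21, 22, 25, 32, 36, 40, 43], [46, 0, 1, 2, 3, 7, 8, 11, 13, 15, 18, 19, 21, 22, 24, 31, 36, 41, 45], [46, 0, 2, 3, 4, 7, 8, 9, 10, 14, 17, 20, 21, 22, 30, 31, 33, 34, 38, 41, 43], [46, 47, 2, 3, 4, 5, 8, 9, 11, 13, 14, 15, 16, 17, 21, 23, 24, 27, 28, 29, 30, 31, 32, 33, 34, 35, 42, 44], [47, 5,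 8, 10, 11, 12, 16, 17, 18, 21, 24, 25, 26, 27, 31, 35, 36, 37, 38, 39, 40, 42, 43, 45], [47, 0, 4, 7, 9, 10, 12, 13, 14, 16, 19, 20, 22, 25, 26, 33, 34, 37, 39, 40, 41, 42, 43, 45], [1, 3, 4, 5, 7, 8, 9, 11, 12, 13, 14, 15, 18, 19, 23, 24, 27, 29, 34, 36, 37, 38, 41, 42, 43]]

end Cfsg.Agent.Co2Mult
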