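import Cfsg.Agent.Co2Mult.Transfer

/-!
Central extensions with kernel of odd order over an extraspecial group of order 243 normalised by some elements.
-/

set_option autoImplicit false

namespace Cfsg.Agent.Co2Mult

open scoped commutatorElement

variable {Γ G : Type*} [Group Γ] [Group G]

/-- The product with given exponents. -/
def form {M : Type*} [Group M] (x : Fin 4 → M) (c : M) (e : Fin 5 → ℤ) : M :=
  x 0 ^ e 0 * x 1 ^ e 1 * x 2 ^ e 2 * x 3 ^ e 3 * c ^ e 4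

/-- The elements and their relations. -/
structure Frame (G : Type*) [Group G] where
  /-- The generators. -/
  x : Fin 4 → G
  /-- The central element. -/
  c : G
  /-- The inverting involution. -/
  t : G
  /-- An element of order three completing the Sylow subgroup. -/
  s : G
  /-- An involution separating the planes. -/
  h : G
  /-- An element moving the second plane to the first. -/
  g : G
  /-- The conjugates under `s`. -/
  e : Fin 4 → Fin 5 → ℤ
  cube : ∀ i, x i ^ 3 = 1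
  comm01 : ⁅x 0, x 1⁆ = c
  comm23 : ⁅x 2, x 3⁆ = c
  comm02 : Commute (x 0) (x 2)
  comm03 : Commute (x 0) (x 3)
  comm12 : Commute (x 1) (x 2)
  comm13 : Commute (x 1) (x 3)
  commc : ∀ i, Commute (x i) c
  tsq : t * t = 1
  tinv : ∀ i, t * x i * t⁻¹ = (x i)⁻¹
  tc : Commute t c
  hsq : h * h = 1
  ht : Commute h t
  h0 : h * x 0 * h⁻¹ = x 0
  h1 : h * x 1 * h⁻¹ = x 1
  h2 : h * x 2 * h⁻¹ = (x 2)⁻¹
  h3 : h * x 3 * h⁻¹ = (x 3)⁻¹
  gfour : g ^ 4 = 1
  gt : Commute g t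
  gc : Commute g c
  g2 : g * x 2 * g⁻¹ = x 0
  g3 : g * x 3 * g⁻¹ = x 1
  st : Commute s t
  scube : s ^ 3 = 1
  sconj : ∀ i, s * x i * s⁻¹ = form x c (e i)
  indep : ∀ e : Fin 5 → Fin 3, form x c (fun i => ((e i : ℕ) : ℤ)) = 1 → e = 0

variable (σ : Γ →* G) (F : Frame G)

theorem zpow_mod_three {M : Type*} [Group M] {a : M} (ha : a ^ 3 = 1) (n : ℤ) :
    a ^ n = a ^ ((((n % 3).toNat : ℕ)) : ℤ) := by
  rw [Int.toNat_of_nonneg (Int.emod_nonneg _ (by norm_num))]
  conv_lhs => rw [← Int.mul_ediv_add_emod n 3, zpow_add, zpow_mul,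
    show a ^ (3 : ℤ) = 1 by rw [← ha, zpow_ofNat], one_zpow, one_mul]

/-- The facts on the lifts. -/
theorem three_core [Finite Γ] (hs : Function.Surjective σ) (hker : σ.ker ≤ Subgroup.center Γ)
    (hodd : ∀ k ∈ σ.ker, k * k = 1 → k = 1) :
    ∃ Q M : Subgroup Γ, σ.ker ≤ M ∧ ⁅M, M⁆ ≤ Q ∧ (∀ z ∈ σ.ker, z ∈ Q → z = 1) ∧
      M.map σ = Subgroup.closure (Set.range F.x ∪ {F.s, F.t}) := by
  classical
  have hcen : ∀ k ∈ σ.ker, ∀ a : Γ, a * k = k * a := fun k hk a => Subgroup.mem_center_iff.mp (hker hk) a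
  have hconj : ∀ k ∈ σ.ker, ∀ a : Γ, a * k * a⁻¹ = k := fun k hk a => by
    rw [hcen k hk, mul_inv_cancel_right]
  have hkmem : ∀ {a b : Γ}, σ a = σ b → a⁻¹ * b ∈ σ.ker := fun {a b} e => by
    rw [MonoidHom.mem_ker, map_mul, map_inv, e, inv_mul_cancel]
  -- square roots in the kernel
  have hroot : ∀ k ∈ σ.ker, ∃ m ∈ σ.ker, m * m = k := by
    let sq : σ.ker → σ.ker := fun a => a * a
    have hinj : Function.Injective sq := by
      intro a b hab
      have hab' : (a : Γ) * a = (b : Γ) * b := congrArg Subtype.val hab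
      have hc : Commute (b : Γ)⁻¹ (a : Γ) := (hcen (a : Γ) a.2 (b : Γ)⁻¹)
      have := hodd ((b : Γ)⁻¹ * a) (mul_mem (inv_mem b.2) a.2) (by
        rw [Commute.mul_mul_mul_comm hc.symm, hab']
        group)
      exact Subtype.ext (inv_mul_eq_one.mp this).symm
    intro k hk
    obtain ⟨m, hm⟩ := Finite.injective_iff_surjective.mp hinj ⟨k, hk⟩
    exact ⟨m, m.2, congrArg Subtype.val hm⟩
  obtain ⟨T, hT⟩ := hs F.t
  -- inverted lifts
  have inv_unique : ∀ {a b : Γ}, σ a = σ b → T * a * T⁻¹ = a⁻¹ → T * b * T⁻¹ = b⁻¹ → a = b := by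
    intro a b e ha hb
    obtain ⟨k, hk, rfl⟩ : ∃ k ∈ σ.ker, b = a * k := ⟨a⁻¹ * b, hkmem e, by group⟩
    have h1 : T * (a * k) * T⁻¹ = a⁻¹ * k := by
      rw [show T * (a * k) * T⁻¹ = T * a * T⁻¹ * (T * k * T⁻¹) by group, ha, hconj k hk]
    rw [h1, mul_inv_rev, ← hcen k⁻¹ (inv_mem hk) a⁻¹] at hb
    have : k * k = 1 := by
      have := mul_left_cancel hb
      conv_lhs => arg 1; rw [this]
      exact inv_mul_cancel k
    rw [hodd k hk this, mul_one]
  have lift : ∀ a : G, F.t * a * F.t⁻¹ = a⁻¹ → ∃ y, σ y = a ∧ T * y * T⁻¹ = y⁻¹ := by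
    intro a ha
    obtain ⟨y0, hy0⟩ := hs a
    obtain ⟨k, hk, hk'⟩ : ∃ k ∈ σ.ker, T * y0 * T⁻¹ = y0⁻¹ * k :=
      ⟨y0 * (T * y0 * T⁻¹), by rw [MonoidHom.mem_ker]; simp only [map_mul, map_inv, hT, hy0, ha, mul_inv_cancel],
        by group⟩
    obtain ⟨m, hm, hmm⟩ := hroot k⁻¹ (inv_mem hk)
    refine ⟨y0 * m, by rw [map_mul, hy0, MonoidHom.mem_ker.mp hm, mul_one], ?_⟩
    rw [show T * (y0 * m) * T⁻¹ = T * y0 * T⁻¹ * (T * m * T⁻¹) by group, hk', hconj m hm, mul_inv_rev,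
      ← hcen m⁻¹ (inv_mem hm), mul_assoc, mul_right_inj]
    calc k * m = k * (m * m) * m⁻¹ := by group
      _ = m⁻¹ := by rw [hmm, mul_inv_cancel, one_mul]
  choose y hy hyT using fun i => lift _ (F.tinv i)
  have hσT : ∀ a, σ (T * a * T⁻¹) = F.t * σ a * F.t⁻¹ := fun a => by simp [hT]
  -- conjugation by elements commuting with the involution
  have hconjT : ∀ (U : Γ), Commute (σ U) F.t → ∀ i, T * (U * y i * U⁻¹) * T⁻¹ = (U * y i * U⁻¹)⁻¹ := by
    intro U hU i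
    obtain ⟨k, hk, hk'⟩ : ∃ k ∈ σ.ker, T * U = U * T * k := by
      refine ⟨(U * T)⁻¹ * (T * U), hkmem ?_, by group⟩
      rw [map_mul, map_mul, hT]; exact hU.eq
    calc T * (U * y i * U⁻¹) * T⁻¹ = (T * U) * y i * (T * U)⁻¹ := by group
      _ = U * T * (k * y i * k⁻¹) * (U * T)⁻¹ := by rw [hk']; group
      _ = U * (T * y i * T⁻¹) * U⁻¹ := by rw [← hcen k hk (y i), mul_inv_cancel_right]; group
      _ = (U * y i * U⁻¹)⁻¹ := by rw [hyT]; group
  have conj_lift : ∀ (U : Γ), Commute (σ U) F.t → ∀ i (q : Γ), σ U * F.x i * (σ U)⁻¹ = σ q →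
      T * q * T⁻¹ = q⁻¹ → U * y i * U⁻¹ = q := fun U hU i q e hq =>
    inv_unique (by rw [map_mul, map_mul, map_inv, hy, e]) (hconjT U hU i) hq
  -- cubes
  have hcube : ∀ i, y i ^ 3 = 1 := by
    intro i
    have hk : y i ^ 3 ∈ σ.ker := by rw [MonoidHom.mem_ker, map_pow, hy, F.cube]
    refine hodd _ hk ?_
    have h := (conj_pow (i := 3) (b := y i) (a := T)).symm
    rw [hyT, inv_pow, hconj _ hk] at h
    calc y i ^ 3 * y i ^ 3 = y i ^ 3 * (y i ^ 3)⁻¹ := by rw [← h]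
      _ = 1 := mul_inv_cancel _
  set C := ⁅y 0, y 1⁆ with hC
  have hσC : σ C = F.c := by rw [hC, map_commutatorElement, hy, hy, F.comm01]
  -- the commutator is centralised
  have hTC0 : T * C * T⁻¹ = (y 0)⁻¹ * (y 1)⁻¹ * y 0 * y 1 := by
    rw [hC, commutatorElement_def]
    calc T * (y 0 * y 1 * (y 0)⁻¹ * (y 1)⁻¹) * T⁻¹
        = (T * y 0 * T⁻¹) * (T * y 1 * T⁻¹) * (T * y 0 * T⁻¹)⁻¹ * (T * y 1 * T⁻¹)⁻¹ := by group
      _ = _ := by rw [hyT, hyT, inv_inv, inv_inv]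
  have hCy : ∀ i, y i * C = C * y i := by
    intro i
    obtain ⟨k, hk, hk'⟩ : ∃ k ∈ σ.ker, T * C * T⁻¹ = C * k :=
      ⟨C⁻¹ * (T * C * T⁻¹), hkmem (by rw [hσT, hσC, F.tc.eq, mul_inv_cancel_right]), by group⟩
    set p := ⁅y i, C⁆ with hp
    have hpk : p ∈ σ.ker := by
      rw [MonoidHom.mem_ker, hp, map_commutatorElement, hy, hσC, commutatorElement_eq_one_iff_commute]
      exact F.commc i
    have h1 : T * p * T⁻¹ = p⁻¹ := by
      rw [hp, commutatorElement_def]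
      calc T * (y i * C * (y i)⁻¹ * C⁻¹) * T⁻¹
          = (T * y i * T⁻¹) * (T * C * T⁻¹) * (T * y i * T⁻¹)⁻¹ * (T * C * T⁻¹)⁻¹ := by group
        _ = (y i)⁻¹ * C * (k * y i * k⁻¹) * C⁻¹ := by rw [hyT, hk']; group
        _ = (y i)⁻¹ * C * y i * C⁻¹ := by rw [← hcen k hk, mul_inv_cancel_right]
        _ = (y i)⁻¹ * ⁅C, y i⁆ * y i := by rw [commutatorElement_def]; group
        _ = ⁅C, y i⁆ := by
          have : ⁅C, y i⁆ ∈ σ.ker := by rw [← commutatorElement_inv, ← hp]; exact inv_mem hpk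
          rw [hcen _ this (y i)⁻¹, inv_mul_cancel_right]
        _ = _ := by rw [commutatorElement_def]; group
    rw [hconj p hpk] at h1
    have hp1 : p = 1 := hodd p hpk (by nth_rw 2 [h1]; exact mul_inv_cancel p)
    exact commutatorElement_eq_one_iff_mul_comm.mp hp1
  have hCY : ∀ i, Commute (y i) C := hCy
  have hTC : T * C * T⁻¹ = C := by
    rw [hTC0]
    have e : y 0 * y 1 = C * y 1 * y 0 := by rw [hC, commutatorElement_def]; group
    rw [mul_assoc _ (y 0) (y 1), e, mul_assoc _ (y 1) (y 0), ← mul_assoc ((y 0)⁻¹ * (y 1)⁻¹) C (y 1 * y 0)]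
    rw [show (y 0)⁻¹ * (y 1)⁻¹ * C = C * ((y 0)⁻¹ * (y 1)⁻¹) from
      (((hCY 0).inv_left.mul_left (hCY 1).inv_left)).eq]
    group
  have hC3 : C ^ 3 = 1 := by
    have e : y 0 * y 1 * (y 0)⁻¹ = C * y 1 := by rw [hC, commutatorElement_def]; group
    have h := conj_pow (i := 3) (b := y 1) (a := y 0)
    rw [e, hcube, mul_one, mul_inv_cancel, (hCY 1).symm.mul_pow, hcube, mul_one] at h
    exact h
  -- the other commutators
  obtain ⟨H, hH⟩ := hs F.h
  obtain ⟨W, hW⟩ := hs F.g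
  have hHt : Commute (σ H) F.t := hH ▸ F.ht
  have hWt : Commute (σ W) F.t := hW ▸ F.gt
  have hyTi : ∀ i, T * (y i)⁻¹ * T⁻¹ = (y i)⁻¹⁻¹ := fun i => by
    rw [show T * (y i)⁻¹ * T⁻¹ = (T * y i * T⁻¹)⁻¹ by group, hyT]
  have hH0 : H * y 0 * H⁻¹ = y 0 := conj_lift H hHt 0 _ (by rw [hH, F.h0, hy]) (hyT 0)
  have hH1 : H * y 1 * H⁻¹ = y 1 := conj_lift H hHt 1 _ (by rw [hH, F.h1, hy]) (hyT 1)
  have hH2 : H * y 2 * H⁻¹ = (y 2)⁻¹ := conj_lift H hHt 2 _ (by rw [hH, F.h2, map_inv, hy]) (hyTi 2)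
  have hH3 : H * y 3 * H⁻¹ = (y 3)⁻¹ := conj_lift H hHt 3 _ (by rw [hH, F.h3, map_inv, hy]) (hyTi 3)
  have cross : ∀ a b, Commute (F.x a) (F.x b) → H * y a * H⁻¹ = y a → H * y b * H⁻¹ = (y b)⁻¹ →
      Commute (y a) (y b) := by
    intro a b hab ha hb
    set p := ⁅y a, y b⁆ with hp
    have hpk : p ∈ σ.ker := by
      rw [MonoidHom.mem_ker, hp, map_commutatorElement, hy, hy, commutatorElement_eq_one_iff_commute]
      exact hab
    have h1 : H * p * H⁻¹ = p⁻¹ := by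
      calc H * p * H⁻¹
          = (H * y a * H⁻¹) * (H * y b * H⁻¹) * (H * y a * H⁻¹)⁻¹ * (H * y b * H⁻¹)⁻¹ := by
            rw [hp, commutatorElement_def]; group
        _ = (y b)⁻¹ * p⁻¹ * y b := by rw [ha, hb, hp, commutatorElement_def]; group
        _ = p⁻¹ := by rw [hcen p⁻¹ (inv_mem hpk), inv_mul_cancel_right]
    rw [hconj p hpk] at h1
    have hp1 : p = 1 := hodd p hpk (by nth_rw 2 [h1]; exact mul_inv_cancel p)
    exact commutatorElement_eq_one_iff_commute.mp hp1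
  have c02 := cross 0 2 F.comm02 hH0 hH2
  have c03 := cross 0 3 F.comm03 hH0 hH3
  have c12 := cross 1 2 F.comm12 hH1 hH2
  have c13 := cross 1 3 F.comm13 hH1 hH3
  have hW2 : W * y 2 * W⁻¹ = y 0 := conj_lift W hWt 2 _ (by rw [hW, F.g2, hy]) (hyT 0)
  have hW3 : W * y 3 * W⁻¹ = y 1 := conj_lift W hWt 3 _ (by rw [hW, F.g3, hy]) (hyT 1)
  have c23 : ⁅y 2, y 3⁆ = C := by
    have h1 : W * ⁅y 2, y 3⁆ * W⁻¹ = C := by
      calc W * ⁅y 2, y 3⁆ * W⁻¹
          = ⁅W * y 2 * W⁻¹, W * y 3 * W⁻¹⁆ := by simp only [commutatorElement_def]; group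
        _ = C := by rw [hW2, hW3, hC]
    obtain ⟨k, hk, hk'⟩ : ∃ k ∈ σ.ker, W * C * W⁻¹ = C * k :=
      ⟨C⁻¹ * (W * C * W⁻¹), hkmem (by simp only [map_mul, map_inv, hW, hσC]; rw [F.gc.eq, mul_inv_cancel_right]),
        by group⟩
    have hit : ∀ n : ℕ, W ^ n * C * (W ^ n)⁻¹ = C * k ^ n := by
      intro n
      induction n with
      | zero => simp
      | succ n ih =>
        calc W ^ (n + 1) * C * (W ^ (n + 1))⁻¹ = W * (W ^ n * C * (W ^ n)⁻¹) * W⁻¹ := by
              rw [pow_succ' W n]; group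
          _ = (W * C * W⁻¹) * (W * k ^ n * W⁻¹) := by rw [ih]; group
          _ = C * k ^ (n + 1) := by rw [hk', hconj _ (pow_mem hk n), pow_succ' k n, mul_assoc]
    have hW4 : W ^ 4 ∈ σ.ker := by rw [MonoidHom.mem_ker, map_pow, hW, F.gfour]
    have h4 := hit 4
    rw [← hcen _ hW4 C, mul_inv_cancel_right] at h4
    have hk4 : k ^ 4 = 1 := mul_left_cancel (h4.symm.trans (mul_one C).symm)
    have hk1 : k = 1 := hodd k hk (hodd _ (mul_mem hk hk) (by rw [← hk4]; simp only [pow_succ, pow_zero, one_mul, mul_assoc]))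
    rw [hk1, mul_one] at hk'
    exact mul_left_cancel (a := W) (mul_right_cancel (h1.trans hk'.symm))
  -- normal forms
  let Q : Subgroup Γ := Subgroup.closure (Set.range y)
  have swap : ∀ {a b : Γ}, ⁅a, b⁆ = C → Commute a C → Commute b C → ∀ n : ℤ, b * a ^ n = a ^ n * b * C ^ (-n) := by
    intro a b hab haC hbC' n
    have hbC : b * a * b⁻¹ = C⁻¹ * a := by rw [← hab, commutatorElement_def]; group
    calc b * a ^ n = (b * a * b⁻¹) ^ n * b := by rw [conj_zpow, inv_mul_cancel_right]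
      _ = C ^ (-n) * a ^ n * b := by rw [hbC, (haC.symm.inv_left).mul_zpow, inv_zpow']
      _ = _ := by
        rw [mul_assoc]
        exact ((haC.symm.zpow_zpow (-n) n).mul_right (hbC'.symm.zpow_left (-n))).eq
  have hin : ∀ q ∈ Q, ∃ e, q = form y C e := by
    intro q hq
    have step : ∀ (i : Fin 4) e, ∃ e', y i * form y C e = form y C e' := by
      intro i e
      have hCu : ∀ (m : ℤ) (i : Fin 4) (n : ℤ), Commute (C ^ m) (y i ^ n) := fun m i n =>
        (hCY i).symm.zpow_zpow m n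
      fin_cases i
      · refine ⟨![e 0 + 1, e 1, e 2, e 3, e 4], ?_⟩
        show y 0 * form y C e = y 0 ^ (e 0 + 1) * y 1 ^ e 1 * y 2 ^ e 2 * y 3 ^ e 3 * C ^ e 4
        simp only [form, add_comm (e 0) 1, zpow_one_add, mul_assoc]
      · refine ⟨![e 0, e 1 + 1, e 2, e 3, e 4 - e 0], ?_⟩
        show y 1 * form y C e = y 0 ^ e 0 * y 1 ^ (e 1 + 1) * y 2 ^ e 2 * y 3 ^ e 3 * C ^ (e 4 - e 0)
        calc y 1 * form y C e
            = (y 1 * y 0 ^ e 0) * (y 1 ^ e 1 * y 2 ^ e 2 * y 3 ^ e 3) * C ^ e 4 := by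
              simp only [form, mul_assoc]
          _ = y 0 ^ e 0 * y 1 * (C ^ (-e 0) * (y 1 ^ e 1 * y 2 ^ e 2 * y 3 ^ e 3)) * C ^ e 4 := by
              rw [swap hC.symm (hCY 0) (hCY 1) (e 0)]; simp only [mul_assoc]
          _ = y 0 ^ e 0 * y 1 * ((y 1 ^ e 1 * y 2 ^ e 2 * y 3 ^ e 3) * C ^ (-e 0)) * C ^ e 4 := by
              rw [(((hCu _ 1 _).mul_right (hCu _ 2 _)).mul_right (hCu _ 3 _)).eq]
          _ = _ := by
              rw [add_comm (e 1) 1, zpow_one_add, sub_eq_neg_add (e 4), zpow_add C (-e 0)]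
              simp only [mul_assoc]
      · refine ⟨![e 0, e 1, e 2 + 1, e 3, e 4], ?_⟩
        show y 2 * form y C e = y 0 ^ e 0 * y 1 ^ e 1 * y 2 ^ (e 2 + 1) * y 3 ^ e 3 * C ^ e 4
        calc y 2 * form y C e
            = (y 2 * (y 0 ^ e 0 * y 1 ^ e 1)) * y 2 ^ e 2 * y 3 ^ e 3 * C ^ e 4 := by
              simp only [form, mul_assoc]
          _ = _ := by
              rw [((c02.symm.zpow_right (e 0)).mul_right (c12.symm.zpow_right (e 1))).eq,
                add_comm (e 2) 1, zpow_one_add]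
              simp only [mul_assoc]
      · refine ⟨![e 0, e 1, e 2, e 3 + 1, e 4 - e 2], ?_⟩
        show y 3 * form y C e = y 0 ^ e 0 * y 1 ^ e 1 * y 2 ^ e 2 * y 3 ^ (e 3 + 1) * C ^ (e 4 - e 2)
        calc y 3 * form y C e
            = (y 3 * (y 0 ^ e 0 * y 1 ^ e 1)) * y 2 ^ e 2 * y 3 ^ e 3 * C ^ e 4 := by
              simp only [form, mul_assoc]
          _ = y 0 ^ e 0 * y 1 ^ e 1 * (y 3 * y 2 ^ e 2) * y 3 ^ e 3 * C ^ e 4 := by
              rw [((c03.symm.zpow_right (e 0)).mul_right (c13.symm.zpow_right (e 1))).eq]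
              simp only [mul_assoc]
          _ = y 0 ^ e 0 * y 1 ^ e 1 * y 2 ^ e 2 * (y 3 * (C ^ (-e 2) * y 3 ^ e 3)) * C ^ e 4 := by
              rw [swap c23 (hCY 2) (hCY 3) (e 2)]; simp only [mul_assoc]
          _ = _ := by
              rw [(hCu _ 3 _).eq, add_comm (e 3) 1, zpow_one_add, sub_eq_neg_add (e 4), zpow_add C (-e 2)]
              simp only [mul_assoc]
    induction hq using Subgroup.closure_induction_left with
    | one => exact ⟨0, by simp [form]⟩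
    | mul_left a ha b _ ih =>
      obtain ⟨i, rfl⟩ := ha
      obtain ⟨e, rfl⟩ := ih
      exact step i e
    | inv_mul_cancel a ha b _ ih =>
      obtain ⟨i, rfl⟩ := ha
      obtain ⟨e, rfl⟩ := ih
      obtain ⟨e1, he1⟩ := step i e
      obtain ⟨e2, he2⟩ := step i e1
      refine ⟨e2, ?_⟩
      rw [← he2, ← he1, inv_mul_eq_iff_eq_mul, ← mul_assoc, ← mul_assoc, ← pow_three', hcube, one_mul]
  have hCQ : C ∈ Q := by
    rw [hC, commutatorElement_def]
    have := fun i => Subgroup.subset_closure (k := Set.range y) ⟨i, rfl⟩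
    exact mul_mem (mul_mem (mul_mem (this 0) (this 1)) (inv_mem (this 0))) (inv_mem (this 1))
  have hQ1 : ∀ q ∈ Q, σ q = 1 → q = 1 := by
    intro q hq h1
    obtain ⟨e, rfl⟩ := hin q hq
    let e' : Fin 5 → Fin 3 := fun i => ⟨(e i % 3).toNat, by omega⟩
    have hred : form y C e = form y C fun i => ((e' i : ℕ) : ℤ) := by
      simp only [form, e']
      rw [zpow_mod_three (hcube 0) (e 0), zpow_mod_three (hcube 1) (e 1), zpow_mod_three (hcube 2) (e 2),
        zpow_mod_three (hcube 3) (e 3), zpow_mod_three hC3 (e 4)]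
    rw [hred] at h1 ⊢
    have : e' = 0 := F.indep e' (by simpa [form, map_zpow, hy, hσC] using h1)
    rw [this]
    simp [form]
  have hQinj : ∀ a ∈ Q, ∀ b ∈ Q, σ a = σ b → a = b := fun a ha b hb e =>
    inv_mul_eq_one.mp (hQ1 _ (mul_mem (inv_mem ha) hb) (by rw [map_mul, map_inv, e, inv_mul_cancel]))
  obtain ⟨S, hS⟩ := hs F.s
  let gens : Set Γ := Set.range y ∪ {S, T} ∪ (σ.ker : Set Γ)
  let M : Subgroup Γ := Subgroup.closure gens
  have hTQ : ∀ q ∈ Q, T * q * T⁻¹ ∈ Q := by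
    intro q hq
    induction hq using Subgroup.closure_induction with
    | mem a ha =>
      obtain ⟨i, rfl⟩ := ha
      rw [hyT]; exact inv_mem (Subgroup.subset_closure ⟨i, rfl⟩)
    | one => simp
    | mul a b _ _ ha hb => rw [← conj_mul]; exact mul_mem ha hb
    | inv a _ ha => rw [← conj_inv]; exact inv_mem ha
  have hSy : ∀ i, S * y i * S⁻¹ ∈ Q := by
    intro i
    have hqQ : form y C (F.e i) ∈ Q := by
      have := fun i => Subgroup.subset_closure (k := Set.range y) ⟨i, rfl⟩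
      exact mul_mem (mul_mem (mul_mem (mul_mem (zpow_mem (this 0) _) (zpow_mem (this 1) _)) (zpow_mem (this 2) _))
        (zpow_mem (this 3) _)) (zpow_mem hCQ _)
    have e1 : σ (form y C (F.e i)) = F.s * F.x i * F.s⁻¹ := by
      rw [F.sconj]; simp [form, map_zpow, hy, hσC]
    rw [conj_lift S (hS ▸ F.st) i (form y C (F.e i)) (by rw [hS, e1]) ?_]
    · exact hqQ
    refine hQinj _ (hTQ _ hqQ) _ (inv_mem hqQ) ?_
    rw [hσT, map_inv, e1, mul_inv_rev, mul_inv_rev, inv_inv]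
    calc F.t * (F.s * F.x i * F.s⁻¹) * F.t⁻¹ = (F.t * F.s) * F.x i * (F.t * F.s)⁻¹ := by group
      _ = F.s * (F.t * F.x i * F.t⁻¹) * F.s⁻¹ := by rw [← F.st.eq]; group
      _ = _ := by rw [F.tinv]; group
  have hnorm : ∀ a ∈ M, a ∈ Subgroup.normalizer (Q : Set Γ) := by
    intro a ha
    refine (Subgroup.closure_le _).mpr ?_ ha
    rintro b ((⟨i, rfl⟩ | rfl | rfl) | hb)
    · exact Subgroup.le_normalizer (Subgroup.subset_closure ⟨i, rfl⟩)
    all_goals refine Subgroup.mem_normalizer_fintype fun q hq => ?_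
    · induction hq using Subgroup.closure_induction with
      | mem a ha => obtain ⟨i, rfl⟩ := ha; exact hSy i
      | one => simp
      | mul a b _ _ ha hb => rw [← conj_mul]; exact mul_mem ha hb
      | inv a _ ha => rw [← conj_inv]; exact inv_mem ha
    · exact hTQ q hq
    · rw [show b * q * b⁻¹ = q by rw [← hcen b hb q, mul_inv_cancel_right]]; exact hq
  have hST : ⁅S, T⁆ = 1 := by
    set p := ⁅S, T⁆ with hp
    have hpk : p ∈ σ.ker := by
      rw [MonoidHom.mem_ker, hp, map_commutatorElement, hS, hT, commutatorElement_eq_one_iff_commute]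
      exact F.st
    have hT2 : T * T ∈ σ.ker := by rw [MonoidHom.mem_ker, map_mul, hT, F.tsq]
    refine hodd p hpk ?_
    calc p * p = p * (T * p * T⁻¹) := by rw [hconj p hpk]
      _ = ⁅S, T * T⁆ := by rw [hp, commutatorElement_def, commutatorElement_def]; group
      _ = 1 := commutatorElement_eq_one_iff_mul_comm.mpr (hcen _ hT2 S)
  refine ⟨Q, M, fun k hk => Subgroup.subset_closure (Or.inr hk), ?_, fun z hz hq => hQ1 z hq hz, ?_⟩
  · refine commutator_closure_le (fun a ha q hq => ((Subgroup.mem_normalizer_iff.mp (hnorm a ha)) q).mp hq) ?_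
    have hyQ : ∀ i, y i ∈ Q := fun i => Subgroup.subset_closure ⟨i, rfl⟩
    have hcomQ : ∀ a ∈ M, ∀ q ∈ Q, ⁅a, q⁆ ∈ Q ∧ ⁅q, a⁆ ∈ Q := fun a ha q hq => by
      have h1 : a * q * a⁻¹ ∈ Q := ((Subgroup.mem_normalizer_iff.mp (hnorm a ha)) q).mp hq
      refine ⟨?_, ?_⟩
      · rw [commutatorElement_def]; exact mul_mem h1 (inv_mem hq)
      · rw [commutatorElement_def, show q * a * q⁻¹ * a⁻¹ = q * (a * q * a⁻¹)⁻¹ by group]
        exact mul_mem hq (inv_mem h1)
    intro a ha b hb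
    have ha' : a ∈ M := Subgroup.subset_closure ha
    have hb' : b ∈ M := Subgroup.subset_closure hb
    have hker1 : ∀ k ∈ σ.ker, ∀ u : Γ, ⁅k, u⁆ ∈ Q ∧ ⁅u, k⁆ ∈ Q := fun k hk u => by
      rw [commutatorElement_eq_one_iff_mul_comm.mpr (hcen k hk u).symm,
        commutatorElement_eq_one_iff_mul_comm.mpr (hcen k hk u)]
      exact ⟨one_mem _, one_mem _⟩
    rcases ha with (⟨i, rfl⟩ | hA) | hA
    · exact (hcomQ b hb' _ (hyQ i)).2
    · rcases hb with (⟨j, rfl⟩ | hB) | hB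
      · exact (hcomQ a ha' _ (hyQ j)).1
      · have hTS : ⁅T, S⁆ = 1 := by rw [← commutatorElement_inv, hST, inv_one]
        rcases hA with h | h <;> rcases hB with h' | h' <;> rw [h, h'] <;> simp [hST, hTS]
      · exact (hker1 b hB a).2
    · exact (hker1 a hA b).1
  · rw [MonoidHom.map_closure, Set.image_union, Set.image_union, ← Set.range_comp, Set.image_pair, hS, hT,
      show σ ∘ y = F.x from funext hy]
    refine le_antisymm ((Subgroup.closure_le _).mpr ?_) (Subgroup.closure_mono Set.subset_union_left)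
    refine Set.union_subset Subgroup.subset_closure ?_
    rintro _ ⟨k, hk, rfl⟩
    rw [MonoidHom.mem_ker.mp hk]; exact one_mem _

end Cfsg.Agent.Co2Mult
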