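import Cfsg.Agent.Co2Out.Data

/-! Generated: words for an extraspecial group of order 243 and elements normalising it. -/

set_option autoImplicit false
set_option Elab.async false

namespace Cfsg.Agent.Co2Mult.ThreeData

/-- The generators. -/
def xs : List (List ℕ) := [[50,47,0,47,0,51,46,53,46,53,50,56,54,50,57,54,57,57,54,56], [1,57,1,0,58,49,58,50,53,55,51,56,58,56,54,56,54],
  [52,52,47,1,0,50,56,58,48,54,58,52,55,57,57,57,58,55], [51,1,0,1,0,53,55,49,49,57,50,55,51,51,56,56,56,58,55,58]]

/-- The commutator. -/
def c : List ℕ := [48,54,46,1,57,55,49,54,50,56,53,56,56,56,54,58,55,58]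

/-- The inverting involution. -/
def t : List ℕ := [58,47,1,46,58,57,47,50,56,52,52,56,54,57]

/-- The element of order three. -/
def s : List ℕ := [46,58,56,46,57,52,58,55,50,58,56,54,56,55,56,54]

/-- The involution separating the planes. -/
def h : List ℕ := [54,51,1,49,50,46,49,55,52,54,54,50,57,57,55,57,54,58]

/-- The element moving the planes. -/
def g : List ℕ := [1,51,57,47,1,46,58,46,46,58,50,52,50,58,57,57,54,56,54,58]

/-- The exponents of the conjugates. -/
def sexp : List (List ℕ) := [[2,1,1,0,2], [1,0,1,2,2], [1,0,2,1,2], [1,2,1,0,2]]

/-- A vector with distinct images under the forms. -/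
def probe : ℕ := 2254258

/-- Its images. -/
def images : List ℕ := [2254258,2116,702828,2320113,13810049,8588821,623438,3423744,5205035,7960182,4236619,4424602,1509002,5367337,16692764,3501869,6458489,15709675,10812469,4159758,10583643,12842103,8172434,14828347,12779609,13191499,5721548,12359369,11563251,2372256,12441482,15767159,1828988,639310,10905921,16318862,5841633,9371156,11373650,15477786,11750163,13723304,15601962,5143068,3041943,8762179,3598002,9023121,3194813,3486229,3955285,1115365,9000816,10585192,11937761,10005549,417622,7150566,2493705,7466383,13876234,5779169,11626891,5899312,11799544,9723759,5471883,14214054,10701239,5399914,2041669,6657717,1815574,3368156,1190826,13234858,14757286,5410731,7753383,5819053,5559469,2888940,2159318,11841669,4874216,1949550,84231,14498666,12578539,3439616,8287896,11119213,9099307,8271517,367756,16100272,12796814,16035921,12186238,13474118,8309943,12682388,10660604,1116401,9074160,1528823,3525117,1789431,2532804,536072,9887091,10130308,13313040,7032052,476718,4303179,8131589,8212553,9658241,11733782,12674060,7222329,8881327,8337358,10874120,15863388,5479955,8081113,5898671,6023147,12916546,14983182,7346613,14963744,156050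42,11724695,9472609,10107721,13954707,4165784,10071918,14514538,2996650,8524197,6169103,6811954,6608867,8723469,15151542,14318340,1588617,14173748,7875842,15521328,7820043,15291486,5366070,5802358,5532830,12932939,7722950,15565907,1110746,4094230,10521197,7846557,13731179,10273942,13253536,9786223,6656943,1672042,16223394,14145589,7844755,4913441,1416744,15249191,8961964,4768785,7857911,6239805,8288587,8379663,7551207,7779663,13291562,14811954,5407679,8695945,10935679,11299927,3786634,2437603,7218956,1049828,16335758,10196495,3862828,205329,1216,3394450,12844206,4743555,9413984,16061584,12773199,13151956,5450735,13446330,7723986,15640275,13007327,8363732,7569620,5315294,1721330,1484232,8578971,10974961,466453,16171365,1066724,7017679,3013546,1746363,13465934,15600392,13164802,2183572,6795575,5561191,14279413,210995,15327650,5944403,15072368,8818712,10954580,1597617,11377256,3383023,10998650]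

end Cfsg.Agent.Co2Mult.ThreeData
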