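import Cfsg.Agent.Co2Mult.Heisenberg
import Cfsg.Agent.Co2Mult.ThreeData
import Cfsg.Agent.Co2Out.Out

/-!
The part of the multiplier at the prime three: a Sylow subgroup lies in an extension of an extraspecial group
whose preimage meets the kernel trivially in its derived group.
-/

set_option autoImplicit false
set_option maxRecDepth 100000
set_option maxHeartbeats 0

namespace Cfsg.Agent.Co2Mult

open Cfsg Cfsg.Agent.Compute Cfsg.Agent.StemCert Cfsg.Agent.OutLin
open scoped commutatorElement

/-- A power of a word. -/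
def rep : ℕ → List ℕ → List ℕ
  | 0, _ => []
  | n + 1, w => w ++ rep n w

/-- The word of a generator. -/
def xw (i : ℕ) : List ℕ := ThreeData.xs.getD i []

/-- The word with given exponents. -/
def formW (a b e f k : ℕ) : List ℕ :=
  rep a (xw 0) ++ rep b (xw 1) ++ rep e (xw 2) ++ rep f (xw 3) ++ rep k ThreeData.c

/-- The element of a word. -/
noncomputable def el (w : List ℕ) : ↥Spor.Co2 := evalW Co2Out.gen w

theorem el_append (v w : List ℕ) : el (v ++ w) = el v * el w := evalW_append _ v w

theorem el_rep (n : ℕ) (w : List ℕ) : el (rep n w) = el w ^ n := by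
  induction n with
  | zero => rfl
  | succ n ih => rw [rep, el_append, ih, pow_succ']

theorem el_formW (a b e f k : ℕ) : el (formW a b e f k) =
    form (fun i : Fin 4 => el (xw i)) (el ThreeData.c) ![(a : ℤ), b, e, f, k] := by
  simp [formW, form, el_append, el_rep, mul_assoc]

/-- The letters are in range. -/
theorem lett_ok : (∀ w ∈ ThreeData.xs ++ [ThreeData.c, ThreeData.t, ThreeData.s, ThreeData.h, ThreeData.g],
    ∀ a ∈ w, a < Co2Out.Data.k) := by
  decide +kernel

theorem eq_of_check {a b : List ℕ} (h : (lettB Co2Out.Data.k a && lettB Co2Out.Data.k b &&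
    eqL Co2Out.Data.codes a b) = true) : el a = el b := by
  simp only [Bool.and_eq_true] at h
  exact eq_of_eqL Co2Out.linRep Co2Out.coded (lettB_spec h.1.1) (lettB_spec h.1.2) h.2

theorem ne_of_check {a : List ℕ} (h : (lettB Co2Out.Data.k a && !eqL Co2Out.Data.codes a []) = true) :
    el a ≠ 1 := by
  simp only [Bool.and_eq_true, Bool.not_eq_true'] at h
  intro e
  have : eqL Co2Out.Data.codes a [] = true := by
    refine allBelow_eq_true.mpr fun i hi => ?_
    rw [forceN_eq, Nat.beq_eq, show Nat.shiftLeft 1 i = 2 ^ i from Nat.one_shiftLeft i,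
      ← valFn_word (ι := Co2Out.ι) Co2Out.coded (lettB_spec h.1) (two_pow_lt hi),
      show evalW Co2Out.gen a = (1 : ↥Spor.Co2) from e, valFn, dif_pos (two_pow_lt hi), map_one]
    rfl
  rw [h.2] at this
  exact Bool.noConfusion this

/-- The equations. -/
def eqns : List (List ℕ × List ℕ) :=
  let x := xw; let c := ThreeData.c; let t := ThreeData.t; let s := ThreeData.s; let h := ThreeData.h
  let g := ThreeData.g; let m := fun i => rep 2 (x i)
  [(rep 3 (x 0), []), (rep 3 (x 1), []), (rep 3 (x 2), []), (rep 3 (x 3), []),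
   (x 0 ++ x 1 ++ m 0 ++ m 1, c), (x 2 ++ x 3 ++ m 2 ++ m 3, c),
   (x 0 ++ x 2, x 2 ++ x 0), (x 0 ++ x 3, x 3 ++ x 0), (x 1 ++ x 2, x 2 ++ x 1), (x 1 ++ x 3, x 3 ++ x 1),
   (x 0 ++ c, c ++ x 0), (x 1 ++ c, c ++ x 1), (x 2 ++ c, c ++ x 2), (x 3 ++ c, c ++ x 3),
   (t ++ t, []), (t ++ x 0, m 0 ++ t), (t ++ x 1, m 1 ++ t), (t ++ x 2, m 2 ++ t), (t ++ x 3, m 3 ++ t),
   (t ++ c, c ++ t), (h ++ h, []), (h ++ t, t ++ h),
   (h ++ x 0, x 0 ++ h), (h ++ x 1, x 1 ++ h), (h ++ x 2, m 2 ++ h), (h ++ x 3, m 3 ++ h),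
   (rep 4 g, []), (g ++ t, t ++ g), (g ++ c, c ++ g), (g ++ x 2, x 0 ++ g), (g ++ x 3, x 1 ++ g),
   (s ++ t, t ++ s), (rep 3 s, [])] ++
  (List.range 4).map fun i =>
    (s ++ x i, (let e := ThreeData.sexp.getD i []
      formW (e.getD 0 0) (e.getD 1 0) (e.getD 2 0) (e.getD 3 0) (e.getD 4 0)) ++ s)

/-- All equations hold. -/
noncomputable def eqnsB : Bool :=
  eqns.all fun p => lettB Co2Out.Data.k p.1 && lettB Co2Out.Data.k p.2 && eqL Co2Out.Data.codes p.1 p.2

theorem eqns_ok : eqnsB = true := by decide +kernel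

theorem eqn {a b : List ℕ} (h : (a, b) ∈ eqns) : el a = el b :=
  eq_of_check (List.all_eq_true.mp eqns_ok _ h)

/-- The exponents numbered. -/
def digit (m i : ℕ) : ℕ := m / 3 ^ i % 3

/-- The word of a number. -/
def numW (m : ℕ) : List ℕ := formW (digit m 0) (digit m 1) (digit m 2) (digit m 3) (digit m 4)

/-- The forms are nontrivial, also after the element of order three. -/
noncomputable def indepB : Bool :=
  allBelow 243 fun m => (Nat.beq m 0 || (lettB Co2Out.Data.k (numW m) && !eqL Co2Out.Data.codes (numW m) [])) &&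
    (lettB Co2Out.Data.k (numW m ++ ThreeData.s) && !eqL Co2Out.Data.codes (numW m ++ ThreeData.s) [])

theorem indep_ok : indepB = true := by decide +kernel

/-- The numbers of the products with the generators. -/
def stepNum (i m : ℕ) : ℕ :=
  let a := digit m 0; let b := digit m 1; let e := digit m 2; let f := digit m 3; let k := digit m 4
  let p := fun a b e f k : ℕ => a % 3 + 3 * (b % 3) + 9 * (e % 3) + 27 * (f % 3) + 81 * (k % 3)
  match i with
  | 0 => p (a + 1) b e f k
  | 1 => p a (b + 1) e f (k + 2 * a)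
  | 2 => p a b (e + 1) f k
  | _ => p a b e (f + 1) (k + 2 * e)

/-- The forms are closed under the generators. -/
noncomputable def closedB : Bool :=
  allBelow 4 fun i => allBelow 243 fun m => Nat.blt (stepNum i m) 243 &&
    (lettB Co2Out.Data.k (xw i ++ numW m) && lettB Co2Out.Data.k (numW (stepNum i m)) &&
      eqL Co2Out.Data.codes (xw i ++ numW m) (numW (stepNum i m)))

theorem closed_ok : closedB = true := by decide +kernel

/-- The images of the probe are distinct. -/
theorem probe_ok : allBelow 243 (fun m => lettB Co2Out.Data.k (numW m) &&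
      Nat.beq (appL Co2Out.Data.codes (numW m) ThreeData.probe) (ThreeData.images.getD m 0)) = true ∧
    ThreeData.images.length = 243 ∧ ThreeData.images.Nodup ∧ ThreeData.probe < 2 ^ 24 := by
  refine ⟨?_, ?_, ?_, ?_⟩ <;> decide +kernel

theorem el_numW_eq (e : Fin 5 → Fin 3) :
    el (numW ((e 0 : ℕ) + 3 * e 1 + 9 * e 2 + 27 * e 3 + 81 * e 4)) =
      form (fun i : Fin 4 => el (xw i)) (el ThreeData.c) (fun i => ((e i : ℕ) : ℤ)) := by
  have := (e 0).2; have := (e 1).2; have := (e 2).2; have := (e 3).2; have := (e 4).2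
  set m : ℕ := (e 0 : ℕ) + 3 * e 1 + 9 * e 2 + 27 * e 3 + 81 * e 4 with hm
  have h0 : digit m 0 = e 0 := by simp only [digit, pow_zero]; omega
  have h1 : digit m 1 = e 1 := by simp only [digit, pow_one]; omega
  have h2 : digit m 2 = e 2 := by simp only [digit, show 3 ^ 2 = 9 from rfl]; omega
  have h3 : digit m 3 = e 3 := by simp only [digit, show 3 ^ 3 = 27 from rfl]; omega
  have h4 : digit m 4 = e 4 := by simp only [digit, show 3 ^ 4 = 81 from rfl]; omega
  rw [numW, h0, h1, h2, h3, h4, el_formW]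
  rfl

theorem inv_of_cube {M : Type*} [Group M] {a : M} (h : a ^ 3 = 1) : a⁻¹ = a * a :=
  inv_eq_of_mul_eq_one_right (by rw [← mul_assoc, ← pow_three', h])

/-- The frame in the group. -/
noncomputable def frame : Frame ↥Spor.Co2 :=
  have cu : ∀ i : Fin 4, el (xw i) ^ 3 = 1 := by
    intro i
    rw [← el_rep]
    fin_cases i <;> exact eqn (b := []) (by simp [eqns, xw])
  have m : ∀ i : Fin 4, el (rep 2 (xw i)) = (el (xw i))⁻¹ := fun i => by
    rw [el_rep, inv_of_cube (cu i), sq]
  have e2 : ∀ {a b c d : List ℕ}, (a ++ b, c ++ d) ∈ eqns → el a * el b = el c * el d := by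
    intro a b c d h; rw [← el_append, ← el_append]; exact eqn h
  { x := fun i => el (xw i)
    c := el ThreeData.c
    t := el ThreeData.t
    s := el ThreeData.s
    h := el ThreeData.h
    g := el ThreeData.g
    e := fun i j => (((ThreeData.sexp.getD i []).getD j 0 : ℕ) : ℤ)
    cube := cu
    comm01 := by
      rw [commutatorElement_def, ← m 0, ← m 1, ← el_append, ← el_append, ← el_append]
      exact eqn (by simp [eqns])
    comm23 := by
      rw [commutatorElement_def, ← m 2, ← m 3, ← el_append, ← el_append, ← el_append]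
      exact eqn (by simp [eqns])
    comm02 := e2 (by simp [eqns])
    comm03 := e2 (by simp [eqns])
    comm12 := e2 (by simp [eqns])
    comm13 := e2 (by simp [eqns])
    commc := fun i => by fin_cases i <;> exact e2 (by simp [eqns])
    tsq := by rw [← el_append]; exact eqn (b := []) (by simp [eqns])
    tinv := fun i => by
      rw [mul_inv_eq_iff_eq_mul, ← m i]
      fin_cases i <;> exact e2 (by simp [eqns])
    tc := e2 (by simp [eqns])
    hsq := by rw [← el_append]; exact eqn (b := []) (by simp [eqns])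
    ht := e2 (by simp [eqns])
    h0 := by rw [mul_inv_eq_iff_eq_mul]; exact e2 (by simp [eqns])
    h1 := by rw [mul_inv_eq_iff_eq_mul]; exact e2 (by simp [eqns])
    h2 := by rw [mul_inv_eq_iff_eq_mul, ← m 2]; exact e2 (by simp [eqns])
    h3 := by rw [mul_inv_eq_iff_eq_mul, ← m 3]; exact e2 (by simp [eqns])
    gfour := by rw [← el_rep]; exact eqn (b := []) (by simp [eqns])
    gt := e2 (by simp [eqns])
    gc := e2 (by simp [eqns])
    g2 := by rw [mul_inv_eq_iff_eq_mul]; exact e2 (by simp [eqns])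
    g3 := by rw [mul_inv_eq_iff_eq_mul]; exact e2 (by simp [eqns])
    st := e2 (by simp [eqns])
    scube := by rw [← el_rep]; exact eqn (b := []) (by simp [eqns])
    sconj := fun i => by
      rw [mul_inv_eq_iff_eq_mul]
      have h := eqn (a := ThreeData.s ++ xw i) (b := (let e := ThreeData.sexp.getD i []
        formW (e.getD 0 0) (e.getD 1 0) (e.getD 2 0) (e.getD 3 0) (e.getD 4 0)) ++ ThreeData.s)
        (List.mem_append_right _ (List.mem_map.mpr ⟨i, List.mem_range.mpr i.2, rfl⟩))
      rw [el_append, el_append, el_formW] at h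
      rw [h]
      congr 2
      funext j
      fin_cases j <;> rfl
    indep := fun e he => by
      by_contra hne
      have h := allBelow_eq_true.mp indep_ok
        ((e 0 : ℕ) + 3 * e 1 + 9 * e 2 + 27 * e 3 + 81 * e 4)
        (by have := (e 0).2; have := (e 1).2; have := (e 2).2; have := (e 3).2; have := (e 4).2; omega)
      simp only [Bool.and_eq_true, Bool.or_eq_true, Nat.beq_eq] at h
      rcases h.1 with h0 | h0
      · refine hne (funext fun i => Fin.ext ?_)
        have := (e 0).2; have := (e 1).2; have := (e 2).2; have := (e 3).2; have := (e 4).2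
        fin_cases i <;> simp <;> omega
      · exact ne_of_check (Bool.and_eq_true _ _ ▸ h0) ((el_numW_eq e).trans he) }

/-- The group of the generators and the element of order three. -/
noncomputable def sylThree : Subgroup ↥Spor.Co2 :=
  Subgroup.closure (Set.range frame.x ∪ {frame.s, frame.t})

theorem el_nil : el [] = 1 := rfl

theorem dvd_card : 729 ∣ Nat.card sylThree := by
  classical
  let Q : Subgroup ↥Spor.Co2 := Subgroup.closure (Set.range frame.x)
  let F : Fin 243 → ↥Spor.Co2 := fun m => el (numW m)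
  have hx : ∀ i : Fin 4, frame.x i = el (xw i) := fun i => rfl
  have hxQ : ∀ i, frame.x i ∈ Q := fun i => Subgroup.subset_closure ⟨i, rfl⟩
  have hcQ : el ThreeData.c ∈ Q := by
    rw [show el ThreeData.c = frame.c from rfl, ← frame.comm01, commutatorElement_def]
    exact mul_mem (mul_mem (mul_mem (hxQ 0) (hxQ 1)) (inv_mem (hxQ 0))) (inv_mem (hxQ 1))
  have hFQ : ∀ m, F m ∈ Q := fun m => by
    have hw : ∀ (n : ℕ) (i : Fin 4), el (rep n (xw i)) ∈ Q := fun n i => by
      rw [el_rep]; exact pow_mem (hxQ i) n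
    show el (formW _ _ _ _ _) ∈ Q
    rw [formW, el_append, el_append, el_append, el_append]
    refine mul_mem (mul_mem (mul_mem (mul_mem (hw _ 0) (hw _ 1)) (hw _ 2)) (hw _ 3)) ?_
    rw [el_rep]; exact pow_mem hcQ _
  have hstep : ∀ (i : Fin 4) (m : Fin 243), ∃ m', frame.x i * F m = F m' := fun i m => by
    have h := allBelow_eq_true.mp (allBelow_eq_true.mp closed_ok i i.2) m m.2
    simp only [Bool.and_eq_true, Nat.blt_eq] at h
    refine ⟨⟨_, h.1⟩, ?_⟩
    rw [hx, ← el_append]
    exact eq_of_check (by simp only [Bool.and_eq_true]; exact h.2)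
  have hsurj : ∀ q ∈ Q, ∃ m, q = F m := by
    intro q hq
    induction hq using Subgroup.closure_induction_left with
    | one => exact ⟨⟨0, by norm_num⟩, rfl⟩
    | mul_left a ha b _ ih =>
      obtain ⟨i, rfl⟩ := ha; obtain ⟨m, rfl⟩ := ih
      exact hstep i m
    | inv_mul_cancel a ha b _ ih =>
      obtain ⟨i, rfl⟩ := ha; obtain ⟨m, rfl⟩ := ih
      obtain ⟨m1, h1⟩ := hstep i m
      obtain ⟨m2, h2⟩ := hstep i m1
      exact ⟨m2, by rw [← h2, ← h1, ← mul_assoc, inv_of_cube (frame.cube i)]⟩
  have hinj : Function.Injective F := by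
    intro a b hab
    have him : ∀ m : Fin 243, valFn Co2Out.ι (F m) ThreeData.probe = ThreeData.images.getD m 0 := fun m => by
      have h := allBelow_eq_true.mp probe_ok.1 m m.2
      simp only [Bool.and_eq_true, Nat.beq_eq] at h
      show valFn Co2Out.ι (evalW Co2Out.gen (numW m)) _ = _
      rw [valFn_word Co2Out.coded (lettB_spec h.1) probe_ok.2.2.2]
      exact h.2
    have he : ThreeData.images.getD a 0 = ThreeData.images.getD b 0 := by rw [← him, ← him, hab]
    have hl := probe_ok.2.1
    rw [List.getD_eq_getElem _ _ (hl.symm ▸ a.2), List.getD_eq_getElem _ _ (hl.symm ▸ b.2)] at he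
    exact Fin.ext (probe_ok.2.2.1.getElem_inj_iff.mp he)
  have hQcard : Nat.card Q = 243 := by
    rw [← Nat.card_fin 243]
    exact (Nat.card_eq_of_bijective (fun m => (⟨F m, hFQ m⟩ : Q)) ⟨fun a b h => hinj (congrArg Subtype.val h),
      fun q => let ⟨m, hm⟩ := hsurj q q.2; ⟨m, Subtype.ext hm.symm⟩⟩).symm
  let P : Subgroup ↥Spor.Co2 := Subgroup.closure (Set.range frame.x ∪ {frame.s})
  have hQP : Q ≤ P := Subgroup.closure_mono Set.subset_union_left
  have hsP : frame.s ∈ P := Subgroup.subset_closure (Or.inr rfl)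
  have hPn : P ≤ Subgroup.normalizer (Q : Set ↥Spor.Co2) := by
    refine (Subgroup.closure_le _).mpr ?_
    rintro b (⟨i, rfl⟩ | rfl)
    · exact Subgroup.le_normalizer (hxQ i)
    · refine Subgroup.mem_normalizer_fintype fun q hq => ?_
      induction hq using Subgroup.closure_induction with
      | mem a ha =>
        obtain ⟨i, rfl⟩ := ha
        rw [frame.sconj]
        exact mul_mem (mul_mem (mul_mem (mul_mem (zpow_mem (hxQ 0) _) (zpow_mem (hxQ 1) _)) (zpow_mem (hxQ 2) _))
          (zpow_mem (hxQ 3) _)) (zpow_mem hcQ _)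
      | one => simp
      | mul a b _ _ ha hb => rw [← conj_mul]; exact mul_mem ha hb
      | inv a _ ha => rw [← conj_inv]; exact inv_mem ha
  have : (Q.subgroupOf P).Normal := Subgroup.normal_subgroupOf_of_le_normalizer hPn
  have hs3 : (QuotientGroup.mk' (Q.subgroupOf P) ⟨frame.s, hsP⟩) ^ 3 = 1 := by
    rw [← map_pow]
    exact (congrArg _ (Subtype.ext frame.scube)).trans (map_one _)
  have hsne : QuotientGroup.mk' (Q.subgroupOf P) ⟨frame.s, hsP⟩ ≠ 1 := by
    intro h
    have hm : frame.s ∈ Q :=
      Subgroup.mem_subgroupOf.mp ((QuotientGroup.eq_one_iff (N := Q.subgroupOf P) ⟨frame.s, hsP⟩).mp h)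
    obtain ⟨m, hm⟩ := hsurj _ (inv_mem hm)
    have hc := allBelow_eq_true.mp indep_ok m m.2
    simp only [Bool.and_eq_true] at hc
    refine ne_of_check (by simp only [Bool.and_eq_true]; exact hc.2) ?_
    rw [el_append, show el (numW m) = frame.s⁻¹ from hm.symm]
    exact inv_mul_cancel _
  have := Fact.mk Nat.prime_three
  have h3 : 3 ∣ Nat.card (P ⧸ Q.subgroupOf P) := orderOf_eq_prime hs3 hsne ▸ orderOf_dvd_natCard _
  have hP : 729 ∣ Nat.card P := by
    rw [Subgroup.card_eq_card_quotient_mul_card_subgroup (Q.subgroupOf P),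
      Nat.card_congr (Subgroup.subgroupOfEquivOfLe hQP).toEquiv, hQcard]
    exact Nat.mul_dvd_mul h3 (dvd_refl 243)
  refine hP.trans (Subgroup.card_dvd_of_le (Subgroup.closure_mono (Set.union_subset_union_right _ ?_)))
  simp

/-- The index of the subgroup is prime to three. -/
theorem index_dvd : sylThree.index ∣ 58032128000 := by
  have h1 := Subgroup.card_mul_index sylThree
  obtain ⟨k, hk⟩ := dvd_card
  rw [hk, Co2Out.card_co2] at h1
  have h2 : k * sylThree.index = 58032128000 := by
    refine Nat.eq_of_mul_eq_mul_left (n := 729) (by norm_num) ?_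
    rw [← mul_assoc, h1]
  exact ⟨k, by rw [mul_comm]; exact h2.symm⟩

/-- The power of a kernel element by the index is trivial. -/
theorem three_part {Γ : Type} [Group Γ] [Finite Γ] (σ : Γ →* ↥Spor.Co2) (hσ : Cfsg.IsStemExtension σ)
    (hperf : commutator Γ = ⊤) (hodd : ∀ k ∈ σ.ker, k * k = 1 → k = 1) {z : Γ} (hz : z ∈ σ.ker) :
    z ^ 58032128000 = 1 := by
  obtain ⟨Q, M, hkM, hMQ, hQ, hmap⟩ := three_core σ frame hσ.1 hσ.2.1 hodd
  obtain ⟨k, hk⟩ : M.index ∣ 58032128000 := by
    have h := Subgroup.index_map_eq M hσ.1 hkM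
    rw [← h, hmap]; exact index_dvd
  rw [hk, pow_mul, hQ _ (pow_mem hz _) (hMQ (pow_index_mem_commutator hperf M (hσ.2.1 hz))), one_pow]

end Cfsg.Agent.Co2Mult
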