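import Cfsg.Agent.Co2Mult.Action
import Cfsg.Agent.Co2Mult.Three
import Cfsg.Agent.McL.Mult.Check
import Cfsg.Agent.ProjExt.Stem

/-!
The Schur multiplier is trivial: the certificate modulo two, the multiplier of the stabiliser, the extraspecial
normaliser and the cyclic subgroup of order 23 leave no kernel.
-/

set_option autoImplicit false
set_option maxRecDepth 100000

namespace Cfsg.Agent.Co2Mult

open Cfsg Cfsg.Agent.CocycleCert
open scoped commutatorElement

/-- A simple group of composite order is perfect. -/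
theorem perfect_of_simple {G : Type*} [Group G] [Finite G] [IsSimpleGroup G] (h : ¬ (Nat.card G).Prime) :
    commutator G = ⊤ := by
  refine ((commutator_def G ▸ inferInstance : (commutator G).Normal).eq_bot_or_eq_top).resolve_left fun e => h ?_
  letI : CommGroup G :=
    { (inferInstance : Group G) with
      mul_comm := fun a b => commutatorElement_eq_one_iff_mul_comm.mp
        (Subgroup.mem_bot.mp (e ▸ Subgroup.commutator_mem_commutator (Subgroup.mem_top a) (Subgroup.mem_top b))) }
  exact IsSimpleGroup.prime_card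

/-- The number of occurrences of a letter. -/
def occ (x : ℕ) (w : List (ℕ × Bool)) : ℕ := w.countP fun a => a.1 == x

/-- In a group of exponent two only the numbers of occurrences matter. -/
theorem evalS_exp_two {A : Type*} [CommGroup A] (hA : ∀ a : A, a * a = 1) (u : ℕ → A) :
    ∀ w : List (ℕ × Bool), (∀ a ∈ w, a.1 < 2) → evalS u w = u 0 ^ occ 0 w * u 1 ^ occ 1 w
  | [], _ => by simp [occ, evalS_nil]
  | (x, b) :: w, h => by
    have hx : x < 2 := h (x, b) (by simp)
    have hv : cond b (u x) (u x)⁻¹ = u x := by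
      cases b
      · exact inv_eq_of_mul_eq_one_right (hA _)
      · rfl
    rw [evalS_cons, hv, evalS_exp_two hA u w fun a ha => h a (by simp [ha])]
    interval_cases x
    · simp [occ, pow_succ, mul_assoc, mul_comm, mul_left_comm]
    · simp [occ, pow_succ, mul_assoc, mul_comm, mul_left_comm]

/-- Shifting the letters by central elements. -/
theorem evalS_shift {Γ : Type*} [Group Γ] (l c : ℕ → Γ) (hc : ∀ x, c x ∈ Subgroup.center Γ) :
    ∀ w : List (ℕ × Bool), evalS (fun x => l x * c x) w = evalS l w * evalS c w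
  | [] => by simp [evalS_nil]
  | (x, b) :: w => by
    rw [evalS_cons, evalS_cons, evalS_cons, evalS_shift l c hc w]
    have hcx : ∀ a : Γ, a * c x = c x * a := fun a => Subgroup.mem_center_iff.mp (hc x) a
    have hci : ∀ a : Γ, a * (c x)⁻¹ = (c x)⁻¹ * a := fun a => Subgroup.mem_center_iff.mp (inv_mem (hc x)) a
    cases b
    · simp only [cond_false, mul_inv_rev]
      rw [← mul_assoc ((c x)⁻¹ * (l x)⁻¹), ← hci (l x)⁻¹, mul_assoc ((l x)⁻¹), ← hci (evalS l w)]
      group
    · simp only [cond_true]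
      rw [← mul_assoc (l x * c x), mul_assoc (l x), ← hcx (evalS l w)]
      group

/-- The word with positive letters. -/
def posW (w : List (ℕ × Bool)) : List ℕ := w.flatMap fun a => if a.2 then [a.1] else List.replicate 4 a.1

/-- Equal words, and the letters of inverses have order dividing five. -/
noncomputable def relsB : Bool :=
  OutLin.eqL abCodes (List.replicate 5 1) [] &&
    cert.rels.all fun w => (w.all fun a => (a.1 == 0 && a.2) || a.1 == 1) && OutLin.eqL abCodes (posW w) []

theorem rels_ok : relsB = true := by decide +kernel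

theorem evalS_rel {w : List (ℕ × Bool)} (hw : w ∈ cert.rels) : evalS ab w = 1 := by
  have h := rels_ok
  simp only [relsB, Bool.and_eq_true, List.all_eq_true, Bool.or_eq_true, beq_iff_eq] at h
  obtain ⟨h5, hall⟩ := h
  obtain ⟨hlett, he⟩ := hall w hw
  have h5' : StemCert.evalW ab (List.replicate 5 1) = StemCert.evalW ab [] :=
    OutLin.eq_of_eqL Co2Out.linRep coded_ab (by simp) (by simp) h5
  have hb : (ab 1)⁻¹ = ab 1 ^ 4 := by
    refine inv_eq_of_mul_eq_one_right ?_
    rw [← pow_succ']
    simpa [StemCert.evalW, pow_succ, mul_assoc] using h5'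
  have hpos : ∀ l : List (ℕ × Bool), (∀ a ∈ l, (a.1 = 0 ∧ a.2 = true) ∨ a.1 = 1) →
      evalS ab l = StemCert.evalW ab (posW l) ∧ ∀ s ∈ posW l, s < 2 := by
    intro l
    induction l with
    | nil => exact fun _ => ⟨rfl, by simp [posW]⟩
    | cons a l ih =>
      intro h
      obtain ⟨e, hl⟩ := ih fun x hx => h x (by simp [hx])
      obtain ⟨x, b⟩ := a
      have hxb := h (x, b) (by simp)
      rw [show posW ((x, b) :: l) = (if b then [x] else List.replicate 4 x) ++ posW l from rfl,
        StemCert.evalW_append, evalS_cons, e]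
      refine ⟨?_, ?_⟩
      · congr 1
        cases b
        · rcases hxb with ⟨-, h0⟩ | h0
          · simp at h0
          · simp only at h0
            subst h0
            simp [StemCert.evalW, hb, pow_succ, mul_assoc]
        · simp [StemCert.evalW]
      · intro s hs
        rcases List.mem_append.mp hs with hs | hs
        · cases b <;> simp at hs <;> rcases hxb with ⟨h0, -⟩ | h0 <;> simp only at h0 <;> omega
        · exact hl s hs
  obtain ⟨e, hl⟩ := hpos w hlett
  rw [e]
  exact OutLin.eq_of_eqL Co2Out.linRep coded_ab hl (by simp) he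

theorem zero_facts : cert.zero = [1, 3] ∧ occ 0 (cert.rels.getD 1 []) % 2 = 0 ∧
    occ 1 (cert.rels.getD 1 []) % 2 = 1 ∧ occ 0 (cert.rels.getD 3 []) % 2 = 1 ∧
    occ 1 (cert.rels.getD 3 []) % 2 = 1 ∧ cert.rels.getD 1 [] ∈ cert.rels ∧ cert.rels.getD 3 [] ∈ cert.rels ∧
    cert.K = 2 := by
  decide +kernel

theorem pow_mod_two {A : Type*} [CommGroup A] (hA : ∀ a : A, a * a = 1) (a : A) (n : ℕ) : a ^ n = a ^ (n % 2) := by
  conv_lhs => rw [← Nat.mod_add_div n 2, pow_add, pow_mul, sq, hA, one_pow, mul_one]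

theorem stab_index : S.index = 47104 := by
  have h := Subgroup.card_mul_index S
  rw [Nat.card_congr stabEquiv.toEquiv, McL.card_mcl, Co2Out.card_co2] at h
  omega

variable {Γ : Type} [Group Γ] [Finite Γ] (σ : Γ →* ↥Spor.Co2)

theorem co2_perfect : commutator ↥Spor.Co2 = ⊤ := perfect_of_simple (by rw [Co2Out.card_co2]; norm_num)

/-- Every map from the preimage of the stabiliser to a group of exponent two is trivial. -/
theorem exp_two_trivial (hσ : Cfsg.IsStemExtension σ) {A : Type} [CommGroup A] (hA : ∀ a : A, a * a = 1)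
    (ρ : S.comap σ →* A) (p : S.comap σ) : ρ p = 1 := by
  classical
  obtain ⟨hs, hker, -⟩ := id hσ
  obtain ⟨hz0, n10, n11, n30, n31, hm1, hm3, hK⟩ := zero_facts
  choose m hm using fun x => hs (ab x)
  have hkS : σ.ker ≤ S.comap σ := fun z hz => by
    rw [Subgroup.mem_comap, MonoidHom.mem_ker.mp hz]; exact one_mem _
  have hk : ∀ w ∈ cert.rels, evalS m w ∈ σ.ker := fun w hw => by
    rw [MonoidHom.mem_ker, map_evalS, show (fun x => σ (m x)) = ab from funext hm, evalS_rel hw]
  let z1 : σ.ker := ⟨_, hk _ hm1⟩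
  let z3 : σ.ker := ⟨_, hk _ hm3⟩
  let c : ℕ → σ.ker := fun x => if x = 0 then z3 * z1 else z1
  let ρk : σ.ker →* A := ρ.comp (Subgroup.inclusion hkS)
  let l : ℕ → Γ := fun x => m x * (c x : Γ)
  have hl : ∀ x, σ (l x) = ab x := fun x => by
    show σ (m x * (c x : Γ)) = _
    rw [map_mul, hm, MonoidHom.mem_ker.mp (c x).2, mul_one]
  have hzero : ∀ k ∈ cert.zero, ∀ h, ρ ⟨evalS l (cert.rels.getD k []), h⟩ = 1 := by
    intro k hk' h
    rw [hz0] at hk'
    have hmem : cert.rels.getD k [] ∈ cert.rels := by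
      simp only [List.mem_cons, List.not_mem_nil, or_false] at hk'
      rcases hk' with rfl | rfl <;> assumption
    have hlett : ∀ a ∈ cert.rels.getD k [], a.1 < 2 := fun a ha =>
      lt_of_lt_of_eq (checked.relsLt _ hmem a ha) hK
    let e1 : σ.ker := ⟨_, hk _ hmem⟩
    let e2 : σ.ker := evalS c (cert.rels.getD k [])
    have e : (⟨evalS l (cert.rels.getD k []), h⟩ : S.comap σ) = Subgroup.inclusion hkS (e1 * e2) := by
      refine Subtype.ext ?_
      show evalS (fun x => m x * (c x : Γ)) _ = _
      rw [evalS_shift m (fun x => (c x : Γ)) (fun x => hker (c x).2),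
        ← show (e2 : Γ) = evalS (fun x => (c x : Γ)) (cert.rels.getD k []) from map_evalS σ.ker.subtype c _]
      rfl
    rw [e]
    show ρk (e1 * e2) = 1
    rw [map_mul, show ρk e2 = evalS (fun x => ρk (c x)) (cert.rels.getD k []) from map_evalS ρk c _,
      evalS_exp_two hA _ _ hlett, pow_mod_two hA (ρk (c 0)), pow_mod_two hA (ρk (c 1))]
    simp only [List.mem_cons, List.not_mem_nil, or_false] at hk'
    rcases hk' with rfl | rfl
    · rw [n10, n11, pow_zero, pow_one, one_mul]
      exact hA _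
    · rw [n30, n31, pow_one, pow_one]
      show ρk z3 * (ρk (z3 * z1) * ρk z1) = 1
      rw [map_mul, mul_assoc (ρk z3) (ρk z1), hA (ρk z1), mul_one, hA]
  have hgen : Subgroup.closure {e | ∃ x < cert.K, l x = e} = ⊤ := by
    set H := Subgroup.closure {e | ∃ x < cert.K, l x = e}
    have hmap : H.map σ = ⊤ := by
      rw [eq_top_iff, ← generated, Subgroup.closure_le]
      rintro e ⟨x, hx, rfl⟩
      exact ⟨l x, Subgroup.subset_closure ⟨x, lt_of_lt_of_eq hx hK.symm, rfl⟩, hl x⟩
    have hH : ∀ a : Γ, ∃ h ∈ H, h⁻¹ * a ∈ Subgroup.center Γ := fun a => by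
      obtain ⟨h, hh, e⟩ := Subgroup.mem_map.mp (hmap ▸ Subgroup.mem_top (σ a))
      exact ⟨h, hh, hker (by rw [MonoidHom.mem_ker, map_mul, map_inv, e, inv_mul_cancel])⟩
    rw [eq_top_iff, ← perfect_of_stem σ hσ co2_perfect, commutator_def, Subgroup.commutator_le]
    intro a _ b _
    obtain ⟨h, hh, hha⟩ := hH a
    obtain ⟨h', hh', hhb⟩ := hH b
    rw [show a = h * (h⁻¹ * a) by group, show b = h' * (h'⁻¹ * b) by group,
      StemCert.commutator_mul_central _ _ hha hhb]
    exact mul_mem (mul_mem (mul_mem hh hh') (inv_mem hh)) (inv_mem hh')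
  exact trivial_image checked σ hker φ ab (fun x hx c => φ_tab x (lt_of_lt_of_eq hx hK) c)
    (fun x hx c => φ_back x (lt_of_lt_of_eq hx hK) c) (fun w hw => evalS_rel hw) S
    (fun y => φ_fix y checked.n_pos) l hl hgen hA ρ hzero p

/-- The derived group of the preimage of the stabiliser meets the kernel in a group of exponent three. -/
theorem cube_eq_one (hσ : Cfsg.IsStemExtension σ) {z : Γ} (hz : z ∈ σ.ker)
    (hzD : z ∈ ⁅S.comap σ, S.comap σ⁆) : z ^ 3 = 1 := by
  obtain ⟨hs, hker, -⟩ := id hσ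
  set T := S.comap σ with hT
  set D : Subgroup Γ := ⁅T, T⁆ with hD
  have hDT : D ≤ T := by
    rw [hD, Subgroup.commutator_le]
    intro a ha b hb
    exact mul_mem (mul_mem (mul_mem ha hb) (inv_mem ha)) (inv_mem hb)
  let σD : D →* S := (σ.comp D.subtype).codRestrict S fun d => hDT d.2
  let τ : D →* ↥Spor.McL := stabEquiv.toMonoidHom.comp σD
  have hmapD : ∀ s : S, ∃ d : D, σD d = s := by
    have hperf : commutator S = ⊤ := by
      have : IsSimpleGroup S := MulEquiv.isSimpleGroup stabEquiv
      exact perfect_of_simple (by rw [Nat.card_congr stabEquiv.toEquiv, McL.card_mcl]; norm_num)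
    have hS : ⁅S, S⁆ = S := by
      conv_lhs => rw [← Subgroup.range_subtype S, MonoidHom.range_eq_map, ← Subgroup.map_commutator,
        ← commutator_def, hperf, ← MonoidHom.range_eq_map, Subgroup.range_subtype]
    have hD' : D.map σ = S := by
      rw [hD, Subgroup.map_commutator, hT, Subgroup.map_comap_eq_self_of_surjective hs, hS]
    intro s
    obtain ⟨d, hd, e⟩ := Subgroup.mem_map.mp (hD'.symm ▸ s.2 : (s : ↥Spor.Co2) ∈ D.map σ)
    exact ⟨⟨d, hd⟩, Subtype.ext e⟩
  have hτs : Function.Surjective τ := fun y => by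
    obtain ⟨d, hd⟩ := hmapD (stabEquiv.symm y)
    exact ⟨d, by show stabEquiv (σD d) = y; rw [hd, MulEquiv.apply_symm_apply]⟩
  have hτk : ∀ d : D, d ∈ τ.ker ↔ (d : Γ) ∈ σ.ker := fun d => by
    rw [MonoidHom.mem_ker, MonoidHom.mem_ker]
    show stabEquiv (σD d) = 1 ↔ _
    rw [map_eq_one_iff _ stabEquiv.injective, Subtype.ext_iff]
    rfl
  have hDperf : commutator D = ⊤ := by
    have hle : D ≤ (commutator D).map D.subtype := by
      rw [commutator_def, Subgroup.map_commutator, ← MonoidHom.range_eq_map, Subgroup.range_subtype]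
      refine Subgroup.commutator_le.mpr ?_
      intro a ha b hb
      obtain ⟨d, hd⟩ := hmapD ⟨σ a, ha⟩
      obtain ⟨e, he⟩ := hmapD ⟨σ b, hb⟩
      have hd' : σ (d : Γ) = σ a := congrArg Subtype.val hd
      have he' : σ (e : Γ) = σ b := congrArg Subtype.val he
      rw [show a = (d : Γ) * ((d : Γ)⁻¹ * a) by group, show b = (e : Γ) * ((e : Γ)⁻¹ * b) by group,
        StemCert.commutator_mul_central _ _
          (hker (by rw [MonoidHom.mem_ker, map_mul, map_inv, hd', inv_mul_cancel]))
          (hker (by rw [MonoidHom.mem_ker, map_mul, map_inv, he', inv_mul_cancel]))]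
      exact Subgroup.commutator_mem_commutator d.2 e.2
    rw [eq_top_iff]
    intro d _
    obtain ⟨e, he, hed⟩ := Subgroup.mem_map.mp (hle d.2)
    exact Subtype.ext hed ▸ he
  have hτ : Cfsg.IsStemExtension τ := ⟨hτs, fun d hd => Subgroup.mem_center_iff.mpr fun e =>
    Subtype.ext (Subgroup.mem_center_iff.mp (hker ((hτk d).mp hd)) (e : Γ)),
    fun d _ => hDperf ▸ Subgroup.mem_top d⟩
  obtain ⟨π, hπ⟩ := McL.Mult.bound τ hτ
  obtain ⟨q, hq⟩ := hπ ⟨⟨z, hzD⟩, (hτk _).mpr hz⟩
  have h3 : q ^ 3 = 1 := (by decide : ∀ q : Multiplicative (ZMod 3), q ^ 3 = 1) q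
  have h := congrArg (fun k : τ.ker => ((k : D) : Γ)) (congrArg (· ^ 3) hq)
  simp only [← map_pow, h3, map_one, OneMemClass.coe_one, SubmonoidClass.coe_pow] at h
  exact h.symm

/-- A kernel element of two-power order is trivial. -/
theorem two_part (hσ : Cfsg.IsStemExtension σ) {z : Γ} (hz : z ∈ σ.ker) (n : ℕ) (hn : z ^ 2 ^ n = 1) : z = 1 := by
  classical
  have hzT : z ∈ S.comap σ := by rw [Subgroup.mem_comap, MonoidHom.mem_ker.mp hz]; exact one_mem _
  let B := Abelianization (S.comap σ)
  have : Finite B := Finite.of_surjective Abelianization.of (QuotientGroup.mk'_surjective _)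
  let sq : B →* B := powMonoidHom 2
  have hA : ∀ a : B ⧸ sq.range, a * a = 1 := fun a => by
    obtain ⟨b, rfl⟩ := QuotientGroup.mk_surjective a
    rw [← QuotientGroup.mk_mul, QuotientGroup.eq_one_iff]
    exact ⟨b, sq_eq b⟩
  have hsurj : Function.Surjective sq := fun b => by
    obtain ⟨p, rfl⟩ := (QuotientGroup.mk'_surjective _ : Function.Surjective (Abelianization.of (G := ↥(S.comap σ)))) b
    have h := exp_two_trivial σ hσ hA ((QuotientGroup.mk' sq.range).comp Abelianization.of) p
    exact (QuotientGroup.eq_one_iff _).mp h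
  have hinj : Function.Injective sq := Finite.injective_iff_surjective.mpr hsurj
  have hpow : ∀ m (b : B), b ^ 2 ^ m = 1 → b = 1 := by
    intro m
    induction m with
    | zero => intro b hb; simpa using hb
    | succ m ih =>
      intro b hb
      refine hinj (a₁ := b) (a₂ := 1) ?_
      rw [map_one]
      refine ih _ ?_
      show (b ^ 2) ^ 2 ^ m = 1
      rwa [← pow_mul, ← pow_succ']
  have h1 : Abelianization.of (⟨z, hzT⟩ : S.comap σ) = 1 := hpow n _ (by
    rw [← map_pow, show (⟨z, hzT⟩ : S.comap σ) ^ 2 ^ n = 1 from Subtype.ext hn, map_one])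
  rw [← MonoidHom.mem_ker, Abelianization.ker_of] at h1
  have hzD : z ∈ ⁅S.comap σ, S.comap σ⁆ := by
    have h := Subgroup.mem_map_of_mem (S.comap σ).subtype h1
    rwa [commutator_def, Subgroup.map_commutator, ← MonoidHom.range_eq_map, Subgroup.range_subtype] at h
  have h3 := cube_eq_one σ hσ hz hzD
  have hcop : Nat.gcd (2 ^ n) 3 = 1 := Nat.Coprime.pow_left n (by norm_num)
  have := (pow_gcd_eq_one (a := z)).mpr ⟨hn, h3⟩
  rwa [hcop, pow_one] at this
where
  sq_eq {B : Type} [CommGroup B] (b : B) : (powMonoidHom 2 : B →* B) b = b * b := sq b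

/-- Stem extensions are isomorphisms. -/
theorem ker_eq_bot (hσ : Cfsg.IsStemExtension σ) : σ.ker = ⊥ := by
  obtain ⟨hs, hker, -⟩ := id hσ
  have hperf := perfect_of_stem σ hσ co2_perfect
  have hodd : ∀ k ∈ σ.ker, k * k = 1 → k = 1 := fun k hk h =>
    two_part σ hσ hk 1 (by rw [pow_one, sq]; exact h)
  rw [eq_bot_iff]
  intro z hz
  have h1 : z ^ 58032128000 = 1 := three_part σ hσ hperf hodd hz
  have h2 : z ^ 1839366144000 = 1 := by
    have hi : (Subgroup.zpowers (Co2Out.gen 0)).index = 1839366144000 := by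
      have h := Subgroup.card_mul_index (Subgroup.zpowers (Co2Out.gen 0))
      rw [Nat.card_zpowers, Co2Out.orderOf_zero, Co2Out.card_co2] at h
      omega
    rw [← hi]
    exact pow_index_eq_one_of_cyclic σ hs hker hperf (Co2Out.gen 0) hz
  have h3 : z ^ (47104 * 3) = 1 := by
    rw [pow_mul]
    have h := pow_index_mem_commutator hperf (S.comap σ) (hker hz)
    rw [Subgroup.index_comap_of_surjective _ hs, stab_index] at h
    exact cube_eq_one σ hσ (pow_mem hz _) h
  have h4 := (pow_gcd_eq_one (a := z)).mpr ⟨(pow_gcd_eq_one (a := z)).mpr ⟨h1, h2⟩, h3⟩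
  rw [Subgroup.mem_bot]
  refine two_part σ hσ hz 11 ?_
  convert h4 using 2
  norm_num

/-- The multiplier. -/
theorem multiplier : Cfsg.HasCyclicSchurMultiplier ↥Spor.Co2 1 :=
  ProjExt.Stem.hasCyclicSchurMultiplier_one fun _ _ _ σ hσ => ker_eq_bot σ hσ

end Cfsg.Agent.Co2Mult
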