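import Cfsg.Agent.Co2Mult.Data
import Cfsg.Agent.OutLin.Basic

/-! The checks that are run by the kernel. -/

set_option autoImplicit false

namespace Cfsg.Agent.Co2Mult

open Cfsg.Agent.CosetCert Cfsg.Agent.OutLin

/-- The tables are inverse to each other and describe the action of the two matrices on the points. -/
noncomputable def pointB (c : ℕ) : Bool :=
  allFrom (fun x => force (tab c x) fun t => force (back c x) fun b =>
    Nat.blt t cert.n && Nat.blt b cert.n && Nat.beq (back t x) c &&
      Nat.beq (mapply (abCodes.getD x 0) (pt c)) (pt b)) 0 2 &&
  force (place c) (fun i => Nat.beq (pointAt i) c)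

/-- The points increase along their places. -/
noncomputable def sortB (i : ℕ) : Bool := Nat.blt (pt (pointAt i)) (pt (pointAt (Nat.succ i)))

end Cfsg.Agent.Co2Mult
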