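import Mathlib
import Cfsg.Prelude.Def_KGroupFacts
import Cfsg.Agent.StemCert.Split

/-!
Central elements of a perfect group and subgroups containing them.
-/

set_option autoImplicit false

namespace Cfsg.Agent.Co2Mult

open scoped commutatorElement

variable {Γ G : Type*} [Group Γ] [Group G]

/-- In a perfect group the power of a central element by the index of a subgroup containing it lies in the
derived subgroup of that subgroup. -/
theorem pow_index_mem_commutator [Finite Γ] (hperf : commutator Γ = ⊤) (H : Subgroup Γ) {z : Γ}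
    (hz : z ∈ Subgroup.center Γ) : z ^ H.index ∈ ⁅H, H⁆ := by
  have hcomm : ∀ k (g₀ : Γ), g₀⁻¹ * z ^ k * g₀ = z ^ k := fun k g₀ => by
    rw [mul_assoc, ← Subgroup.mem_center_iff.mp (pow_mem hz k) g₀, inv_mul_cancel_left]
  have key : ∀ (k : ℕ) (g₀ : Γ), g₀⁻¹ * z ^ k * g₀ ∈ H → g₀⁻¹ * z ^ k * g₀ = z ^ k :=
    fun k g₀ _ => hcomm k g₀
  have h1 : MonoidHom.transfer (Abelianization.of (G := H)) z = 1 :=
    MonoidHom.mem_ker.mp (Abelianization.commutator_subset_ker _ (hperf ▸ Subgroup.mem_top z))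
  rw [MonoidHom.transfer_eq_pow (Abelianization.of (G := H)) z key, ← MonoidHom.mem_ker,
    Abelianization.ker_of] at h1
  have h2 : (⁅H, H⁆ : Subgroup Γ) = (commutator H).map H.subtype := by
    rw [commutator_def, Subgroup.map_commutator, ← MonoidHom.range_eq_map, Subgroup.range_subtype]
  rw [h2]
  exact ⟨_, h1, rfl⟩

/-- A stem extension of a perfect group is perfect. -/
theorem perfect_of_stem (σ : Γ →* G) (hσ : Cfsg.IsStemExtension σ) (hG : commutator G = ⊤) :
    commutator Γ = ⊤ := by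
  obtain ⟨hs, -, hk⟩ := hσ
  rw [eq_top_iff]
  intro a _
  have h : (commutator Γ).map σ = ⊤ := by
    rw [commutator_def, Subgroup.map_commutator, Subgroup.map_top_of_surjective _ hs, ← commutator_def, hG]
  obtain ⟨b, hb, hba⟩ := Subgroup.mem_map.mp (h ▸ Subgroup.mem_top (σ a))
  rw [show a = b * (b⁻¹ * a) by group]
  exact mul_mem hb (hk (by rw [MonoidHom.mem_ker, map_mul, map_inv, hba, inv_mul_cancel]))

/-- A subgroup generated by commuting elements modulo a subgroup it normalises has its derived subgroup in it. -/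
theorem commutator_closure_le {S : Set Γ} {N : Subgroup Γ} (hn : ∀ a ∈ Subgroup.closure S, ∀ q ∈ N, a * q * a⁻¹ ∈ N)
    (h : ∀ a ∈ S, ∀ b ∈ S, ⁅a, b⁆ ∈ N) : ⁅Subgroup.closure S, Subgroup.closure S⁆ ≤ N := by
  have key : ∀ a ∈ Subgroup.closure S, (∀ b ∈ S, ⁅a, b⁆ ∈ N) →
      ∀ b ∈ Subgroup.closure S, ⁅a, b⁆ ∈ N := by
    intro a ha hab b hb
    induction hb using Subgroup.closure_induction with
    | mem b hb => exact hab b hb
    | one => simp
    | mul b b' hb hb' ih ih' =>
      rw [show ⁅a, b * b'⁆ = ⁅a, b⁆ * (b * ⁅a, b'⁆ * b⁻¹) by simp only [commutatorElement_def]; group]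
      exact mul_mem ih (hn b hb _ ih')
    | inv b hb ih =>
      rw [show ⁅a, b⁻¹⁆ = b⁻¹ * ⁅a, b⁆⁻¹ * b⁻¹⁻¹ by simp only [commutatorElement_def]; group]
      exact hn _ (inv_mem hb) _ (inv_mem ih)
  rw [Subgroup.commutator_le]
  intro a ha b hb
  refine key a ha (fun b hb => ?_) b hb
  rw [← commutatorElement_inv]
  exact inv_mem (key b (Subgroup.subset_closure hb) (h b hb) a ha)

/-- A central element has power one by the index of a subgroup with abelian preimage. -/
theorem pow_index_eq_one_of_cyclic [Finite Γ] (σ : Γ →* G) (hσ : Function.Surjective σ)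
    (hker : σ.ker ≤ Subgroup.center Γ) (hperf : commutator Γ = ⊤) (g : G) {z : Γ} (hz : z ∈ σ.ker) :
    z ^ (Subgroup.zpowers g).index = 1 := by
  obtain ⟨y, rfl⟩ := hσ g
  have hindex : ((Subgroup.zpowers (σ y)).comap σ).index = (Subgroup.zpowers (σ y)).index :=
    Subgroup.index_comap_of_surjective _ hσ
  have h := pow_index_mem_commutator hperf ((Subgroup.zpowers (σ y)).comap σ) (hker hz)
  rw [hindex] at h
  refine Subgroup.mem_bot.mp ((?_ : ⁅(Subgroup.zpowers (σ y)).comap σ, (Subgroup.zpowers (σ y)).comap σ⁆ ≤ ⊥) h)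
  rw [Subgroup.commutator_le]
  intro a ha b hb
  obtain ⟨i, hi⟩ := Subgroup.mem_comap.mp ha
  obtain ⟨j, hj⟩ := Subgroup.mem_comap.mp hb
  have hi' : σ (y ^ i) = σ a := (map_zpow σ y i).trans hi
  have hj' : σ (y ^ j) = σ b := (map_zpow σ y j).trans hj
  rw [Subgroup.mem_bot, show a = y ^ i * ((y ^ i)⁻¹ * a) by group, show b = y ^ j * ((y ^ j)⁻¹ * b) by group,
    Cfsg.Agent.StemCert.commutator_mul_central (y ^ i) (y ^ j)
      (hker (by rw [MonoidHom.mem_ker, map_mul, map_inv, hi', inv_mul_cancel]))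
      (hker (by rw [MonoidHom.mem_ker, map_mul, map_inv, hj', inv_mul_cancel]))]
  exact commutatorElement_eq_one_iff_commute.mpr ((Commute.refl y).zpow_zpow i j)

end Cfsg.Agent.Co2Mult
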